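import Groth.Agent.HilbD.K221.AffPt
import Groth.Agent.Sga4h.GeoDim3
import Groth.Agent.TautSh.K994.Hlft

/-!
# Field valued points of Hilbert schemes of points and fields of definition

`k` a field, `f : X ⟶ Spec k` separated, `j : Spec A ⟶ X` an open immersion over `Spec k`,
`(H, Z)` universal for `Hilb^d_{X/k}`. An ideal `J ≤ K ⊗[k] A` with `dim_K (K ⊗ A ⧸ J) = d`
gives a `K`-point `pt J` of `H`. If `J` is defined over a subfield `F` of `K` then the residue field
of its image has transcendence degree at most that of `F` (`trdegAt_le`), and there is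
always a field of definition with equality (`exists_defOver`).
-/

set_option autoImplicit false
set_option backward.isDefEq.respectTransparency false

universe u

open CategoryTheory CategoryTheory.Limits AlgebraicGeometry TensorProduct

namespace K221.FldPt

open Groth.Agent.Picfga.HilbPull Groth.Agent.Picfga.HilbTriple Groth.Agent.Picfga.SecGraph
  Groth.Agent.Picfga.HilbRep Groth.Agent.Sga4h.GeoDim K221.AffPt

variable {k : Type u} [Field k] {X : Scheme.{u}} {f : X ⟶ Spec (CommRingCat.of k)} {d : ℕ}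
  {H : Over (Spec (CommRingCat.of k))} {Z : HilbD.Obj f d H}

/-- The point of the spectrum of a field. -/
noncomputable abbrev o (K : Type u) [Field K] : Spec (CommRingCat.of K) :=
  genericPoint (Spec (CommRingCat.of K))

lemma eq_o {K : Type u} [Field K] (p : Spec (CommRingCat.of K)) : p = o K :=
  Subsingleton.elim _ _

/-- A field valued point with values in `F` has a residue field of transcendence degree at most
that of `F`. -/
theorem trdegAt_le_trdeg {F : Type u} [Field F] [Algebra k F] (y : T k F ⟶ H) :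
    trdegAt H.hom (y.left (o F)) ≤ Algebra.trdeg k F := by
  have h1 := trdegAt_comp y.left H.hom (o F)
  have h2 : y.left ≫ H.hom = Spec.map (CommRingCat.ofHom (algebraMap k F)) := Over.w y
  rw [h2] at h1
  have h3 := trdegAt_genericPoint_Spec (CommRingCat.ofHom (algebraMap k F))
    (algebraMap k F).injective
  rw [h1] at h3
  have h4 : Groth.Agent.CycB.TrdegAlg.trd (algebraMap k F) = Algebra.trdeg k F :=
    Groth.Agent.CycB.TrdegAlg.trd_algebraMap
  refine le_self_add.trans (h3.trans ?_).le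
  exact h4

/-- Every field valued point comes from the residue field. -/
theorem exists_residue {K : Type u} [Field K] [Algebra k K] (y : T k K ⟶ H) :
    ∃ (L : Type u) (_ : Field L) (_ : Algebra k L) (ψ : L →ₐ[k] K) (z : T k L ⟶ H),
      y = tm k L K ψ ≫ z ∧ trdegAt H.hom (y.left (o K)) = Algebra.trdeg k L := by
  let h : H.left := y.left (IsLocalRing.closedPoint K)
  let ψ₀ : H.left.residueField h ⟶ CommRingCat.of K :=
    (Scheme.SpecToEquivOfField K H.left y.left).2
  have hy : Spec.map ψ₀ ≫ H.left.fromSpecResidueField h = y.left :=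
    (Scheme.SpecToEquivOfField K H.left).left_inv y.left
  obtain ⟨φ, hφ⟩ := Spec.map_surjective (H.left.fromSpecResidueField h ≫ H.hom)
  let L : Type u := H.left.residueField h
  let : Algebra k L := φ.hom.toAlgebra
  let z : T k L ⟶ H := Over.homMk (H.left.fromSpecResidueField h) hφ.symm
  have hw : CommRingCat.ofHom (algebraMap k L) ≫ ψ₀ = CommRingCat.ofHom (algebraMap k K) := by
    apply Spec.map_injective
    rw [Spec.map_comp]
    change Spec.map ψ₀ ≫ Spec.map φ = _
    rw [hφ, ← Category.assoc, hy]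
    exact Over.w y
  let ψ : L →ₐ[k] K :=
    { ψ₀.hom with
      commutes' := fun r => congrArg (fun q => q.hom r) hw }
  refine ⟨L, inferInstance, inferInstance, ψ, z, Over.OverMorphism.ext ?_, ?_⟩
  · rw [Over.comp_left]
    exact hy.symm
  · have he : o K = IsLocalRing.closedPoint K := (eq_o _).symm
    rw [he]
    have h1 := trdegAt_comp z.left H.hom (o L)
    have h2 : z.left ≫ H.hom = Spec.map (CommRingCat.ofHom (algebraMap k L)) := Over.w z
    rw [h2] at h1
    have h3 := trdegAt_genericPoint_Spec (CommRingCat.ofHom (algebraMap k L))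
      (algebraMap k L).injective
    rw [h1] at h3
    have h4 : Groth.Agent.CycB.TrdegAlg.trd (algebraMap k L) = Algebra.trdeg k L :=
      Groth.Agent.CycB.TrdegAlg.trd_algebraMap
    have h5 : trdegAt (H.left.fromSpecResidueField h) (o L) = 0 :=
      trdegAt_eq_zero_of_isPreimmersion _ _
    have h6 : z.left (o L) = h := Scheme.fromSpecResidueField_apply _ _
    have h7 : trdegAt z.left (o L) = 0 := h5
    rw [h7, add_zero, h6] at h3
    exact h3.trans h4


/-! ### Points defined by ideals -/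

section Pt

variable {A : Type u} [CommRing A] [Algebra k A] (j : Spec (CommRingCat.of A) ⟶ X)
  (hj : j ≫ f = Spec.map (CommRingCat.ofHom (algebraMap k A))) [IsOpenImmersion j] [IsSeparated f]
  (hZ : HilbD.IsUniversal f d H Z)

section Ring

variable {R : Type u} [CommRing R] [Algebra k R]

include hZ in
lemma exists_pt (J : Ideal (R ⊗[k] A)) (hJ : Mor2.IsFinLocFreeOfDeg d (zpi J)) :
    ∃ g : T k R ⟶ H, pullObj f g Z = ob f j hj J hJ := by
  obtain ⟨g, hg, -⟩ := hZ _ (ob f j hj J hJ)
  exact ⟨g, Subtype.ext hg⟩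

/-- The `R`-valued point defined by an ideal of `R ⊗ A`. -/
noncomputable def pt (J : Ideal (R ⊗[k] A)) (hJ : Mor2.IsFinLocFreeOfDeg d (zpi J)) : T k R ⟶ H :=
  (exists_pt j hj hZ J hJ).choose

lemma pullObj_pt (J : Ideal (R ⊗[k] A)) (hJ : Mor2.IsFinLocFreeOfDeg d (zpi J)) :
    pullObj f (pt j hj hZ J hJ) Z = ob f j hj J hJ :=
  (exists_pt j hj hZ J hJ).choose_spec

omit [IsSeparated f] in
include hZ in
lemma hom_ext {T' : Over (Spec (CommRingCat.of k))} {a b : T' ⟶ H}
    (h : pullObj f a Z = pullObj f b Z) : a = b :=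
  hom_ext_of_isUniversal hZ (congrArg Subtype.val h)

lemma eq_pt {J : Ideal (R ⊗[k] A)} {hJ : Mor2.IsFinLocFreeOfDeg d (zpi J)} {y : T k R ⟶ H}
    (h : pullObj f y Z = ob f j hj J hJ) : y = pt j hj hZ J hJ :=
  hom_ext hZ (h.trans (pullObj_pt j hj hZ J hJ).symm)

lemma tm_pt {R' : Type u} [CommRing R'] [Algebra k R'] (φ : R →ₐ[k] R') (J : Ideal (R ⊗[k] A))
    (hJ : Mor2.IsFinLocFreeOfDeg d (zpi J)) (hJ' : Mor2.IsFinLocFreeOfDeg d (zpi (J.map (bm A φ)))) :
    tm k R R' φ ≫ pt j hj hZ J hJ = pt j hj hZ (J.map (bm A φ)) hJ' := by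
  apply eq_pt
  rw [pullObj_comp, pullObj_pt, pullObj_ob]

/-- A point whose fibre lies over `Spec A` comes from an ideal. -/
theorem exists_eq_pt (y : T k R ⟶ H) (hy : ∀ z, qq f (pullObj f y Z).1 z ∈ Set.range j) :
    ∃ (J : Ideal (R ⊗[k] A)) (hJ : Mor2.IsFinLocFreeOfDeg d (zpi J)), y = pt j hj hZ J hJ := by
  obtain ⟨J, hJ, h⟩ := exists_ob_eq f j hj (pullObj f y Z) hy
  exact ⟨J, hJ, eq_pt j hj hZ h.symm⟩

/-- The support of the element defined by an ideal. -/
lemma range_qq_ob (J : Ideal (R ⊗[k] A)) (hJ : Mor2.IsFinLocFreeOfDeg d (zpi J))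
    (z : (ob f j hj J hJ).1.subscheme) : qq f (ob f j hj J hJ).1 z ∈ Set.range j := by
  have : IsFinite (zpi J) := hJ.1.1
  have := isClosedImmersion_ziota f j hj J
  obtain ⟨e, he, h⟩ := exists_iso_ker_subscheme (ziota f j hj J)
  have h1 : qq f (ob f j hj J hJ).1 = (e ≫ Spec.map (CommRingCat.ofHom
      ((Ideal.Quotient.mk J).comp (incR R)))) ≫ j := by
    change (ziota f j hj J).ker.subschemeι ≫ _ = _
    rw [← h, Category.assoc, ziota_fst, Category.assoc]
  rw [h1, Scheme.Hom.comp_apply]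
  exact ⟨_, rfl⟩

end Ring

/-- The locus of points of `H` whose fibre is contained in `Spec A`. -/
noncomputable def gd (Z : HilbD.Obj f d H) : H.left.Opens := good j.opensRange Z

omit [Algebra k A] [IsSeparated f] in
lemma mem_gd_iff {R : Type u} [CommRing R] [Algebra k R] (y : T k R ⟶ H)
    (p : Spec (CommRingCat.of R)) :
    y.left p ∈ gd j Z ↔ ∀ z, pi f (pullObj f y Z).1 z = p → qq f (pullObj f y Z).1 z ∈ Set.range j := by
  rw [gd, ← good_pull, mem_good]
  rfl

lemma pt_mem_gd {R : Type u} [CommRing R] [Algebra k R] (J : Ideal (R ⊗[k] A))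
    (hJ : Mor2.IsFinLocFreeOfDeg d (zpi J)) (p : Spec (CommRingCat.of R)) :
    (pt j hj hZ J hJ).left p ∈ gd j Z := by
  rw [mem_gd_iff, pullObj_pt]
  intro z _
  exact range_qq_ob j hj J hJ z

/-- Points with values in a field of the good locus come from ideals. -/
theorem exists_eq_pt_of_mem_gd {K : Type u} [Field K] [Algebra k K] (y : T k K ⟶ H)
    (hy : y.left (o K) ∈ gd j Z) :
    ∃ (J : Ideal (K ⊗[k] A)) (hJ : Mor2.IsFinLocFreeOfDeg d (zpi J)), y = pt j hj hZ J hJ :=
  exists_eq_pt j hj hZ y fun z => (mem_gd_iff j y (o K)).1 hy z (eq_o _)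

/-- The image point of the `K`-point defined by an ideal. -/
noncomputable abbrev im {K : Type u} [Field K] [Algebra k K] (J : Ideal (K ⊗[k] A))
    (hJ : Mor2.IsFinLocFreeOfDeg d (zpi J)) : H.left :=
  (pt j hj hZ J hJ).left (o K)

/-- `J` is defined over the subfield `F`. -/
def DefOver {K : Type u} [Field K] [Algebra k K] (F : IntermediateField k K)
    (J : Ideal (K ⊗[k] A)) : Prop :=
  ∃ J₀ : Ideal (F ⊗[k] A), J₀.map (bm A F.val) = J

/-- **Upper bound.** -/
theorem trdegAt_im_le {K : Type u} [Field K] [Algebra k K] (J : Ideal (K ⊗[k] A))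
    (hJ : Mor2.IsFinLocFreeOfDeg d (zpi J)) (F : IntermediateField k K) (hF : DefOver F J) :
    trdegAt H.hom (im j hj hZ J hJ) ≤ Algebra.trdeg k F := by
  obtain ⟨J₀, rfl⟩ := hF
  have hJ₀ : Mor2.IsFinLocFreeOfDeg d (zpi J₀) := isFinLocFreeOfDeg_zpi_of_map F.val J₀ hJ
  have h1 := tm_pt j hj hZ F.val J₀ hJ₀ hJ
  have h2 : im j hj hZ (J₀.map (bm A F.val)) hJ = (pt j hj hZ J₀ hJ₀).left (o F) := by
    rw [im, ← h1, Over.comp_left, Scheme.Hom.comp_apply]
    congr 1
    exact eq_o _
  rw [h2]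
  exact trdegAt_le_trdeg _

/-- **The field of definition.** -/
theorem exists_defOver {K : Type u} [Field K] [Algebra k K] (J : Ideal (K ⊗[k] A))
    (hJ : Mor2.IsFinLocFreeOfDeg d (zpi J)) :
    ∃ F : IntermediateField k K, DefOver F J ∧
      trdegAt H.hom (im j hj hZ J hJ) = Algebra.trdeg k F := by
  obtain ⟨L, _, _, ψ, z, hz, ht⟩ := exists_residue (pt j hj hZ J hJ)
  have h1 : z.left (o L) = im j hj hZ J hJ := by
    rw [im, hz, Over.comp_left, Scheme.Hom.comp_apply]
    congr 1
    exact (eq_o _).symm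
  obtain ⟨J₁, hJ₁, rfl⟩ := exists_eq_pt_of_mem_gd j hj hZ z
    (by rw [h1]; exact pt_mem_gd j hj hZ J hJ _)
  let e : L ≃ₐ[k] ψ.fieldRange := AlgEquiv.ofInjectiveField ψ
  have he : ψ.fieldRange.val.comp e.toAlgHom = ψ := by
    ext x; rfl
  refine ⟨ψ.fieldRange, ⟨J₁.map (bm A e.toAlgHom), ?_⟩, ht.trans e.trdeg_eq⟩
  have h2 : (bm A ψ.fieldRange.val).comp (bm A e.toAlgHom) = bm A ψ := by
    rw [bm_comp, he]
  rw [Ideal.map_map, h2]
  have hJ₂ := isFinLocFreeOfDeg_map f j hj ψ J₁ hJ₁
  apply ob_injective f j hj (hJ := hJ₂) (hJ' := hJ)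
  rw [← pullObj_pt j hj hZ, ← tm_pt j hj hZ ψ J₁ hJ₁, ← hz, pullObj_pt]

end Pt

/-! ### Dimensions -/

section Dim

variable {Y : Scheme.{u}} (g : Y ⟶ Spec (CommRingCat.of k)) [LocallyOfFiniteType g]

theorem trdegAt_le_of_specializes {x x' : Y} (h : x' ⤳ x) : trdegAt g x ≤ trdegAt g x' := by
  by_cases hne : x' = x
  · rw [hne]
  · exact (trdegAt_lt_of_specializes g h hne (Subsingleton.elim _ _)).le

theorem exists_dim_closure (x : Y) :
    ∃ n : ℕ, trdegAt g x = n ∧ topologicalKrullDim (closure {x} : Set Y) = n :=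
  Groth.Agent.CycB.RelDim.exists_dim_closure g (isAffineOpen_top _)
    ((Scheme.ΓSpecIso (CommRingCat.of k)).commRingCatIsoToRingEquiv.toMulEquiv.isField
      (Field.toIsField _)) x

theorem le_topologicalKrullDim {x : Y} {n : ℕ} (h : (n : Cardinal.{u}) ≤ trdegAt g x) :
    (n : WithBot ℕ∞) ≤ topologicalKrullDim Y := by
  obtain ⟨m, h1, h2⟩ := exists_dim_closure g x
  rw [h1] at h
  have h3 : n ≤ m := by exact_mod_cast h
  calc (n : WithBot ℕ∞) ≤ m := by exact_mod_cast h3
    _ = topologicalKrullDim (closure {x} : Set Y) := h2.symm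
    _ ≤ topologicalKrullDim Y := topologicalKrullDim_subspace_le _ _

theorem topologicalKrullDim_le {N : ℕ} (h : ∀ x : Y, trdegAt g x ≤ (N : Cardinal.{u})) :
    topologicalKrullDim Y ≤ N := by
  choose r hr using fun x : Y => exists_nat_trdegAt g x
  let e := (irreducibleSetEquivPoints (α := Y))
  let φ : TopologicalSpace.IrreducibleCloseds Y → ℕ := fun Z => r (e Z)
  have hcl : ∀ Z : TopologicalSpace.IrreducibleCloseds Y, (Z : Set Y) = closure {e Z} := by
    intro Z
    conv_lhs => rw [← e.symm_apply_apply Z]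
    rfl
  have hg : StrictMono φ := by
    intro Z Z' hZ
    have h1 : e Z' ⤳ e Z := by
      rw [specializes_iff_mem_closure, ← hcl]
      apply hZ.le
      rw [SetLike.mem_coe.symm, hcl]
      exact subset_closure rfl
    have hne : e Z' ≠ e Z := fun h2 => hZ.ne (e.injective h2.symm)
    have h2 := trdegAt_lt_of_specializes g h1 hne (Subsingleton.elim _ _)
    rw [hr, hr] at h2
    exact_mod_cast h2
  have hle : ∀ Z, φ Z ≤ N := by
    intro Z
    have h1 := h (e Z)
    rw [hr] at h1
    exact_mod_cast h1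
  refine iSup_le fun l => ?_
  have h4 := (l.map φ hg).head_add_length_le_nat
  have h5 : (l.map φ hg).last ≤ N := hle _
  have h6 : (l.map φ hg).length = l.length := rfl
  have h7 : l.length ≤ N := by omega
  exact_mod_cast h7

end Dim

end K221.FldPt
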