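import Mathlib.FieldTheory.AlgebraicClosure
import Mathlib.RingTheory.AlgebraicIndependent.Transcendental
import Mathlib.RingTheory.AlgebraicIndependent.TranscendenceBasis
import Mathlib.RingTheory.AlgebraicIndependent.AlgebraicClosure

/-!
# Relative algebraic closures and bounds of transcendence degrees
-/

set_option autoImplicit false

universe u

open Cardinal

namespace K221.Acl

variable {k K : Type u} [Field k] [Field K] [Algebra k K]

/-- The relative algebraic closure of `k(s)` in `K`. -/
noncomputable def acl (k : Type u) {K : Type u} [Field k] [Field K] [Algebra k K] (s : Set K) :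
    IntermediateField k K :=
  (algebraicClosure (IntermediateField.adjoin k s) K).restrictScalars k

lemma mem_acl {s : Set K} {x : K} :
    x ∈ acl k s ↔ IsAlgebraic (IntermediateField.adjoin k s) x := mem_algebraicClosure_iff

lemma isAlgebraic_mono {E F : IntermediateField k K} (h : E ≤ F) {x : K} (hx : IsAlgebraic E x) :
    IsAlgebraic F x := by
  let : Algebra E F := (IntermediateField.inclusion h).toAlgebra
  have : IsScalarTower E F K := .of_algebraMap_eq' rfl
  exact hx.tower_top F

lemma subset_acl (s : Set K) : s ⊆ acl k s := fun x hx =>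
  mem_acl.2 (isAlgebraic_algebraMap (R := IntermediateField.adjoin k s) (A := K)
    ⟨x, IntermediateField.subset_adjoin k s hx⟩)

lemma acl_mono {s t : Set K} (h : s ⊆ t) : acl k s ≤ acl k t := fun _ hx =>
  mem_acl.2 (isAlgebraic_mono (IntermediateField.adjoin.mono k s t h) (mem_acl.1 hx))

lemma adjoin_le_acl (s : Set K) : IntermediateField.adjoin k s ≤ acl k s :=
  IntermediateField.adjoin_le_iff.2 (subset_acl s)

/-- `acl` is closed under algebraic elements. -/
lemma mem_acl_of_isAlgebraic {s : Set K} {F : IntermediateField k K} (hF : F ≤ acl k s) {x : K}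
    (hx : IsAlgebraic F x) : x ∈ acl k s := by
  have h1 : IsAlgebraic (acl k s) x := isAlgebraic_mono hF hx
  let E := IntermediateField.adjoin k s
  have h2 : IsAlgebraic (algebraicClosure E K) x := h1
  have h3 : IsIntegral (algebraicClosure E K) x := h2.isIntegral
  exact mem_acl.2 (isIntegral_trans (R := E) (A := algebraicClosure E K) x h3).isAlgebraic

lemma acl_le {s t : Set K} (h : s ⊆ acl k t) : acl k s ≤ acl k t := fun _ hx =>
  mem_acl_of_isAlgebraic (IntermediateField.adjoin_le_iff.2 h) (mem_acl.1 hx)

open IntermediateField.algebraAdjoinAdjoin in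
/-- The transcendence degree of `acl s`. -/
theorem trdeg_acl_le (s : Set K) : Algebra.trdeg k (acl k s) ≤ #s := by
  let B := Algebra.adjoin k s
  let E := IntermediateField.adjoin k s
  let G := algebraicClosure E K
  have h0 : Algebra.trdeg k B ≤ #s := by
    let φ : MvPolynomial s k →ₐ[k] K := MvPolynomial.aeval (fun i : s => (i : K))
    have hr : φ.range = B := (Algebra.adjoin_eq_range k s).symm
    let e : φ.range ≃ₐ[k] B := Subalgebra.equivOfEq _ _ hr
    rw [← e.trdeg_eq]
    refine (trdeg_le_of_surjective φ.rangeRestrict φ.rangeRestrict_surjective).trans ?_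
    rw [MvPolynomial.trdeg_of_isDomain]
    simp
  have h1 : Algebra.IsAlgebraic B G := Algebra.IsAlgebraic.trans B E G
  have hinj : Function.Injective (algebraMap B G) := by
    rw [IsScalarTower.algebraMap_eq B E G]
    exact (algebraMap E G).injective.comp (FaithfulSMul.algebraMap_injective B E)
  have h4 : FaithfulSMul B G := (faithfulSMul_iff_algebraMap_injective B G).2 hinj
  have h5 : IsScalarTower k B G := .of_algebraMap_eq' rfl
  have h2 : Algebra.trdeg k B + Algebra.trdeg B G = Algebra.trdeg k G := trdeg_add_eq k B
  have h3 : Algebra.trdeg B G = 0 := trdeg_eq_zero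
  rw [h3, add_zero] at h2
  exact h2.symm.le.trans h0

/-- If algebraically independent elements are algebraic over `F` then the transcendence degree
of `F` is at least their number. -/
theorem le_trdeg {ι : Type u} (t : ι → K) (ht : AlgebraicIndependent k t)
    (F : IntermediateField k K) (h : ∀ i, IsAlgebraic F (t i)) : #ι ≤ Algebra.trdeg k F := by
  let G := algebraicClosure F K
  have h1 : Algebra.trdeg k F + Algebra.trdeg F G = Algebra.trdeg k G := trdeg_add_eq k F
  have h2 : Algebra.trdeg F G = 0 := trdeg_eq_zero
  let t' : ι → G := fun i => ⟨t i, mem_algebraicClosure_iff.2 (h i)⟩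
  have h3 : AlgebraicIndependent k t' := by
    let φ : G →ₐ[k] K := (IntermediateField.val G).restrictScalars k
    exact AlgebraicIndependent.of_comp φ ht
  rw [h2, add_zero] at h1
  rw [h1]
  exact h3.cardinalMk_le_trdeg

/-- An algebra homomorphism from an algebra of transcendence degree at most `n` has its image in
the algebraic closure of `n` elements of the image. -/
theorem exists_finset {A : Type u} [CommRing A] [Algebra k A] (y : A →ₐ[k] K) (n : ℕ)
    (hn : Algebra.trdeg k A ≤ n) :
    ∃ s : Set K, #s ≤ n ∧ s ⊆ Set.range y ∧ ∀ a, y a ∈ acl k s := by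
  obtain ⟨t, ht⟩ := exists_isTranscendenceBasis k y.range
  have h1 : #t ≤ n := by
    rw [ht.cardinalMk_eq_trdeg]
    exact (trdeg_le_of_surjective y.rangeRestrict y.rangeRestrict_surjective).trans hn
  refine ⟨Subtype.val '' t, mk_image_le.trans h1, ?_, fun a => ?_⟩
  · rintro _ ⟨z, -, rfl⟩
    exact z.2
  · have h2 : IsAlgebraic (Algebra.adjoin k t) (y.rangeRestrict a) := by
      have := ht.isAlgebraic
      rw [Subtype.range_coe] at this
      exact this.isAlgebraic _
    let E := IntermediateField.adjoin k (Subtype.val '' t : Set K)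
    have h3 : ∀ b : Algebra.adjoin k t, (b : y.range).1 ∈ E := by
      rintro ⟨b, hb⟩
      change b.1 ∈ E
      have h4 : Algebra.adjoin k t ≤ E.toSubalgebra.comap y.range.val :=
        Algebra.adjoin_le fun z hz => IntermediateField.subset_adjoin k _ ⟨z, hz, rfl⟩
      exact h4 hb
    let g : Algebra.adjoin k t →+* E :=
      { toFun := fun b => ⟨(b : y.range).1, h3 b⟩
        map_one' := rfl
        map_mul' := fun _ _ => rfl
        map_zero' := rfl
        map_add' := fun _ _ => rfl }
    have h5 : Function.Injective g := fun a b hab =>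
      Subtype.ext (Subtype.ext (congrArg (fun z : E => (z : K)) hab))
    exact mem_acl.2 (h2.ringHom_of_comp_eq g y.range.val.toRingHom h5 (RingHom.ext fun b => rfl))

end K221.Acl
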