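import Groth.Agent.Picfga.HilbTriple
import Groth.Agent.Picfga.HilbRep
import Groth.Agent.TautSh.K994.Fin
import Mathlib.RingTheory.Finiteness.Descent

/-!
# Points of Hilbert functors with values in rings: ideals

`f : X ⟶ Spec k` separated, `j : Spec A ⟶ X` an open immersion over `Spec k`. For a `k`-algebra `R`,
the elements of `Hilb^d_{X/k}(Spec R)` supported in `Spec A` are the ideals `J` of `R ⊗[k] A` such
that `(R ⊗[k] A) ⧸ J` is finite locally free of degree `d` over `R` (`ob`, `ob_injective`,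
`exists_ob_eq`), compatibly with base change (`pullObj_ob`).
-/

set_option autoImplicit false
set_option backward.isDefEq.respectTransparency false

universe u

open CategoryTheory CategoryTheory.Limits AlgebraicGeometry TensorProduct

namespace K221.AffPt

open Groth.Agent.Picfga.HilbPull Groth.Agent.Picfga.HilbTriple Groth.Agent.Picfga.SecGraph

/-- Base change of a quotient ring. -/
theorem isPushout_quot {A B : Type u} [CommRing A] [CommRing B] (φ : A →+* B) (I : Ideal A) (J : Ideal B)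
    (hIJ : I ≤ J.comap φ) (hJ : J ≤ I.map φ) :
    IsPushout (CommRingCat.ofHom φ) (CommRingCat.ofHom (Ideal.Quotient.mk I))
      (CommRingCat.ofHom (Ideal.Quotient.mk J)) (CommRingCat.ofHom (Ideal.quotientMap J φ hIJ)) := by
  refine ⟨⟨?_⟩, ⟨PushoutCocone.IsColimit.mk _ (fun s => CommRingCat.ofHom
    (Ideal.Quotient.lift J s.inl.hom ?_)) ?_ ?_ ?_⟩⟩
  · apply CommRingCat.hom_ext
    ext a
    rfl
  · have h1 : J ≤ RingHom.ker s.inl.hom := by
      refine hJ.trans (Ideal.map_le_iff_le_comap.2 fun a ha => ?_)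
      rw [Ideal.mem_comap, RingHom.mem_ker]
      have hc := congrArg (fun q => q.hom a) s.condition
      have hc' : s.inl.hom (φ a) = s.inr.hom (Ideal.Quotient.mk I a) := hc
      rw [hc', Ideal.Quotient.eq_zero_iff_mem.2 ha, map_zero]
    exact fun a ha => h1 ha
  · intro s
    apply CommRingCat.hom_ext
    exact RingHom.ext fun x => rfl
  · intro s
    apply CommRingCat.hom_ext
    refine Ideal.Quotient.ringHom_ext (RingHom.ext fun x => ?_)
    have hc := congrArg (fun q => q.hom x) s.condition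
    exact hc
  · intro s m h1 h2
    apply CommRingCat.hom_ext
    refine Ideal.Quotient.ringHom_ext (RingHom.ext fun x => ?_)
    have hc := congrArg (fun q => q.hom x) h1
    exact hc

variable (k : Type u) [CommRing k]

/-- `Spec R` over `Spec k`. -/
noncomputable abbrev T (R : Type u) [CommRing R] [Algebra k R] : Over (Spec (CommRingCat.of k)) :=
  Over.mk (Spec.map (CommRingCat.ofHom (algebraMap k R)))

/-- The morphism `Spec R' ⟶ Spec R` over `Spec k`. -/
noncomputable abbrev tm (R R' : Type u) [CommRing R] [Algebra k R] [CommRing R'] [Algebra k R']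
    (φ : R →ₐ[k] R') : T k R' ⟶ T k R :=
  Over.homMk (Spec.map (CommRingCat.ofHom φ.toRingHom)) (by
    change Spec.map _ ≫ Spec.map _ = Spec.map _
    rw [← Spec.map_comp, ← CommRingCat.ofHom_comp]
    congr 2
    exact φ.comp_algebraMap)

variable {k}
variable {X : Scheme.{u}} (f : X ⟶ Spec (CommRingCat.of k)) {A : Type u} [CommRing A] [Algebra k A]
  (j : Spec (CommRingCat.of A) ⟶ X) (hj : j ≫ f = Spec.map (CommRingCat.ofHom (algebraMap k A)))

section Op

variable (R : Type u) [CommRing R] [Algebra k R]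

/-- The ring homomorphism `A → R ⊗ A`. -/
noncomputable abbrev incR : A →+* R ⊗[k] A :=
  (Algebra.TensorProduct.includeRight : A →ₐ[k] R ⊗[k] A).toRingHom

/-- The open immersion `Spec (R ⊗ A) ⟶ X_R`. -/
noncomputable def op : Spec (CommRingCat.of (R ⊗[k] A)) ⟶ PicF.XT f (T k R) :=
  toXT f (T := T k R) (Spec.map (CommRingCat.ofHom (algebraMap R (R ⊗[k] A))))
    (Spec.map (CommRingCat.ofHom (incR R)) ≫ j) (by
      rw [Category.assoc, hj]
      change Spec.map _ ≫ Spec.map _ = Spec.map _ ≫ Spec.map _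
      rw [← Spec.map_comp, ← Spec.map_comp, ← CommRingCat.ofHom_comp, ← CommRingCat.ofHom_comp]
      congr 2
      ext x
      change (1 : R) ⊗ₜ[k] (algebraMap k A x) = (algebraMap k R x) ⊗ₜ[k] (1 : A)
      rw [Algebra.algebraMap_eq_smul_one, Algebra.algebraMap_eq_smul_one, TensorProduct.smul_tmul])

lemma op_fst : op f j hj R ≫ pullback.fst f (T k R).hom =
    Spec.map (CommRingCat.ofHom (incR R)) ≫ j := pullback.lift_fst _ _ _

lemma op_proj : op f j hj R ≫ PicF.XTproj f (T k R) =
    Spec.map (CommRingCat.ofHom (algebraMap R (R ⊗[k] A))) := pullback.lift_snd _ _ _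

lemma isPullback_tensor : IsPullback (Spec.map (CommRingCat.ofHom (incR (A := A) R)))
    (Spec.map (CommRingCat.ofHom (algebraMap R (R ⊗[k] A))))
    (Spec.map (CommRingCat.ofHom (algebraMap k A)))
    (Spec.map (CommRingCat.ofHom (algebraMap k R))) :=
  isPullback_SpecMap_of_isPushout _ _ _ _ (CommRingCat.isPushout_tensorProduct k R A).flip

lemma isPullback_op : IsPullback (Spec.map (CommRingCat.ofHom (incR R))) (op f j hj R) j
    (pullback.fst f (T k R).hom) := by
  refine IsPullback.of_bot (v₂₁ := PicF.XTproj f (T k R)) (v₂₂ := f)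
    (h₃₁ := (T k R).hom) ?_ (op_fst f j hj R).symm (IsPullback.of_hasPullback f (T k R).hom)
  rw [op_proj, hj]
  exact isPullback_tensor R

instance isOpenImmersion_op [IsOpenImmersion j] : IsOpenImmersion (op f j hj R) :=
  MorphismProperty.of_isPullback (P := @IsOpenImmersion) (isPullback_op f j hj R) ‹_›

variable (R' : Type u) [CommRing R'] [Algebra k R'] (φ : R →ₐ[k] R')

variable (A) in
/-- The base change map on tensor products. -/
noncomputable abbrev bm {R R' : Type u} [CommRing R] [Algebra k R] [CommRing R'] [Algebra k R']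
    (φ : R →ₐ[k] R') : R ⊗[k] A →+* R' ⊗[k] A :=
  (Algebra.TensorProduct.map φ (AlgHom.id k A)).toRingHom

lemma bm_comp {R R' R'' : Type u} [CommRing R] [Algebra k R] [CommRing R'] [Algebra k R']
    [CommRing R''] [Algebra k R''] (ψ : R' →ₐ[k] R'') (φ : R →ₐ[k] R') :
    (bm A ψ).comp (bm A φ) = bm A (ψ.comp φ) := by
  have h : (Algebra.TensorProduct.map ψ (AlgHom.id k A)).comp
      (Algebra.TensorProduct.map φ (AlgHom.id k A)) =
      Algebra.TensorProduct.map (ψ.comp φ) (AlgHom.id k A) := by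
    ext <;> simp
  exact congrArg AlgHom.toRingHom h

lemma bm_incR {R R' : Type u} [CommRing R] [Algebra k R] [CommRing R'] [Algebra k R']
    (φ : R →ₐ[k] R') : (bm A φ).comp (incR R) = incR R' := by
  ext a
  simp [bm, incR]

lemma bm_algebraMap {R R' : Type u} [CommRing R] [Algebra k R] [CommRing R'] [Algebra k R']
    (φ : R →ₐ[k] R') : (bm A φ).comp (algebraMap R (R ⊗[k] A)) =
      (algebraMap R' (R' ⊗[k] A)).comp φ.toRingHom := by
  ext a
  simp [bm, Algebra.TensorProduct.algebraMap_apply]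

lemma bm_op : Spec.map (CommRingCat.ofHom (bm A φ)) ≫ op f j hj R =
    op f j hj R' ≫ PicF.XTmap f (tm k R R' φ) := by
  apply pullback.hom_ext
  · rw [Category.assoc, Category.assoc, XTmap_fst, op_fst, op_fst, ← Category.assoc, ← Spec.map_comp,
      ← CommRingCat.ofHom_comp, bm_incR]
  · have h1 := op_proj f j hj R
    have h2 := op_proj f j hj R'
    have h3 := XTmap_snd f (tm k R R' φ)
    change (Spec.map _ ≫ op f j hj R) ≫ PicF.XTproj f (T k R) =
      (op f j hj R' ≫ PicF.XTmap f (tm k R R' φ)) ≫ PicF.XTproj f (T k R)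
    rw [Category.assoc, Category.assoc, h3, reassoc_of% h2, h1]
    change Spec.map _ ≫ Spec.map _ = Spec.map _ ≫ Spec.map _
    rw [← Spec.map_comp, ← Spec.map_comp, ← CommRingCat.ofHom_comp, ← CommRingCat.ofHom_comp,
      bm_algebraMap]

lemma isPullback_bm_op : IsPullback (Spec.map (CommRingCat.ofHom (bm A φ))) (op f j hj R')
    (op f j hj R) (PicF.XTmap f (tm k R R' φ)) := by
  refine IsPullback.of_right (h₁₂ := Spec.map (CommRingCat.ofHom (incR R))) (v₁₃ := j)
    (h₂₂ := pullback.fst f (T k R).hom) ?_ (bm_op f j hj R R' φ) (isPullback_op f j hj R)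
  rw [← Spec.map_comp, ← CommRingCat.ofHom_comp, bm_incR, XTmap_fst]
  exact isPullback_op f j hj R'

end Op

section Ob

variable {R : Type u} [CommRing R] [Algebra k R]

/-- The projection of the closed subscheme defined by `J` to `Spec R`. -/
noncomputable abbrev zpi (J : Ideal (R ⊗[k] A)) :
    Spec (CommRingCat.of (R ⊗[k] A ⧸ J)) ⟶ Spec (CommRingCat.of R) :=
  Spec.map (CommRingCat.ofHom (algebraMap R (R ⊗[k] A ⧸ J)))

/-- The closed subscheme defined by `J` as a subscheme of `X_R`. -/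
noncomputable abbrev ziota (J : Ideal (R ⊗[k] A)) :
    Spec (CommRingCat.of (R ⊗[k] A ⧸ J)) ⟶ PicF.XT f (T k R) :=
  Spec.map (CommRingCat.ofHom (Ideal.Quotient.mk J)) ≫ op f j hj R

lemma ziota_proj (J : Ideal (R ⊗[k] A)) : ziota f j hj J ≫ PicF.XTproj f (T k R) = zpi J := by
  have h1 := op_proj f j hj R
  rw [Category.assoc, h1, ← Spec.map_comp, ← CommRingCat.ofHom_comp]
  rfl

lemma ziota_fst (J : Ideal (R ⊗[k] A)) : ziota f j hj J ≫ pullback.fst f (T k R).hom =
    Spec.map (CommRingCat.ofHom ((Ideal.Quotient.mk J).comp (incR R))) ≫ j := by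
  rw [Category.assoc, op_fst, ← Category.assoc, ← Spec.map_comp, ← CommRingCat.ofHom_comp]

instance isPreimmersion_ziota [IsOpenImmersion j] (J : Ideal (R ⊗[k] A)) :
    IsPreimmersion (ziota f j hj J) := by
  have : IsClosedImmersion (Spec.map (CommRingCat.ofHom (Ideal.Quotient.mk J))) :=
    IsClosedImmersion.spec_of_surjective _ Ideal.Quotient.mk_surjective
  infer_instance

lemma isClosedImmersion_ziota [IsOpenImmersion j] [IsSeparated f] (J : Ideal (R ⊗[k] A))
    [IsFinite (zpi J)] : IsClosedImmersion (ziota f j hj J) := by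
  have h1 : IsProper (ziota f j hj J ≫ PicF.XTproj f (T k R)) := by
    rw [ziota_proj]; infer_instance
  have h2 : IsProper (ziota f j hj J) := IsProper.of_comp _ (PicF.XTproj f (T k R))
  exact IsClosedImmersion.of_isPreimmersion _ (ziota f j hj J).isClosedMap.isClosed_range

variable {d : ℕ}

/-- The element of the Hilbert functor defined by an ideal of `R ⊗ A`. -/
noncomputable def ob [IsOpenImmersion j] [IsSeparated f] (J : Ideal (R ⊗[k] A))
    (hJ : Mor2.IsFinLocFreeOfDeg d (zpi J)) : HilbD.Obj f d (T k R) :=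
  ⟨(ziota f j hj J).ker, by
    have : IsFinite (zpi J) := hJ.1.1
    have := isClosedImmersion_ziota f j hj J
    obtain ⟨e, he, h⟩ := exists_iso_ker_subscheme (ziota f j hj J)
    rw [← h, Category.assoc, ziota_proj]
    exact isFinLocFreeOfDeg_comp_iso hJ⟩

lemma ob_val [IsOpenImmersion j] [IsSeparated f] (J : Ideal (R ⊗[k] A))
    (hJ : Mor2.IsFinLocFreeOfDeg d (zpi J)) : (ob f j hj J hJ).1 = (ziota f j hj J).ker := rfl

lemma isPullback_quot {R' : Type u} [CommRing R'] [Algebra k R'] (φ : R →ₐ[k] R')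
    (J : Ideal (R ⊗[k] A)) :
    IsPullback (Spec.map (CommRingCat.ofHom (Ideal.quotientMap (J.map (bm A φ)) (bm A φ)
      Ideal.le_comap_map))) (ziota f j hj (J.map (bm A φ))) (ziota f j hj J)
      (PicF.XTmap f (tm k R R' φ)) :=
  IsPullback.paste_vert (isPullback_SpecMap_of_isPushout _ _ _ _
    (isPushout_quot (bm A φ) J (J.map (bm A φ)) Ideal.le_comap_map le_rfl).flip)
    (isPullback_bm_op f j hj R R' φ)

include hj in
lemma isFinLocFreeOfDeg_map {R' : Type u} [CommRing R'] [Algebra k R'] (φ : R →ₐ[k] R')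
    (J : Ideal (R ⊗[k] A)) (hJ : Mor2.IsFinLocFreeOfDeg d (zpi J)) :
    Mor2.IsFinLocFreeOfDeg d (zpi (J.map (bm A φ))) := by
  have h := (isPullback_quot f j hj φ J).paste_vert (isPullback_XTmap f (tm k R R' φ))
  rw [ziota_proj, ziota_proj] at h
  exact isFinLocFreeOfDeg_of_isPullback h hJ

/-- Base change of the element defined by an ideal. -/
theorem pullObj_ob [IsOpenImmersion j] [IsSeparated f] {R' : Type u} [CommRing R'] [Algebra k R']
    (φ : R →ₐ[k] R') (J : Ideal (R ⊗[k] A)) (hJ : Mor2.IsFinLocFreeOfDeg d (zpi J))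
    (hJ' : Mor2.IsFinLocFreeOfDeg d (zpi (J.map (bm A φ)))) :
    pullObj f (tm k R R' φ) (ob f j hj J hJ) = ob f j hj (J.map (bm A φ)) hJ' := by
  apply Subtype.ext
  have : IsFinite (zpi J) := hJ.1.1
  have := isClosedImmersion_ziota f j hj J
  rw [pullObj_val, pull_eq_comap, ob_val, ob_val]
  exact (ker_eq_comap_of_isPullback (isPullback_quot f j hj φ J)).symm

lemma le_of_ker_le [IsOpenImmersion j] [IsSeparated f] (J J' : Ideal (R ⊗[k] A))
    [IsFinite (zpi J)] (h : (ziota f j hj J).ker ≤ (ziota f j hj J').ker) : J ≤ J' := by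
  have := isClosedImmersion_ziota f j hj J
  have h1 := IsClosedImmersion.lift_fac (ziota f j hj J) (ziota f j hj J') h
  rw [← Category.assoc, cancel_mono] at h1
  rw [← Spec.map_preimage (IsClosedImmersion.lift (ziota f j hj J) (ziota f j hj J') h),
    ← Spec.map_comp] at h1
  have h2 := Spec.map_injective h1
  intro x hx
  have h3 := congrArg (fun q => q.hom x) h2
  rw [← Ideal.Quotient.eq_zero_iff_mem]
  refine h3.symm.trans ?_
  have h4 : (Ideal.Quotient.mk J x) = 0 := Ideal.Quotient.eq_zero_iff_mem.2 hx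
  simp only [CommRingCat.hom_comp, CommRingCat.hom_ofHom, RingHom.comp_apply]
  erw [h4, map_zero]

theorem ob_injective [IsOpenImmersion j] [IsSeparated f] {J J' : Ideal (R ⊗[k] A)}
    {hJ : Mor2.IsFinLocFreeOfDeg d (zpi J)} {hJ' : Mor2.IsFinLocFreeOfDeg d (zpi J')}
    (h : ob f j hj J hJ = ob f j hj J' hJ') : J = J' := by
  have h1 : (ziota f j hj J).ker = (ziota f j hj J').ker := congrArg Subtype.val h
  have : IsFinite (zpi J) := hJ.1.1
  have : IsFinite (zpi J') := hJ'.1.1
  exact le_antisymm (le_of_ker_le f j hj J J' h1.le) (le_of_ker_le f j hj J' J h1.ge)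

/-- Elements supported in `Spec A` come from ideals. -/
theorem exists_ob_eq [IsOpenImmersion j] [IsSeparated f] (x : HilbD.Obj f d (T k R))
    (hx : ∀ z, qq f x.1 z ∈ Set.range j) :
    ∃ (J : Ideal (R ⊗[k] A)) (hJ : Mor2.IsFinLocFreeOfDeg d (zpi J)), ob f j hj J hJ = x := by
  have hr : Set.range x.1.subschemeι ⊆ Set.range (op f j hj R) := by
    rintro _ ⟨z, rfl⟩
    obtain ⟨a, ha⟩ := hx z
    obtain ⟨b, hb1, hb2⟩ := Scheme.exists_preimage_of_isPullback (isPullback_op f j hj R) a
      (x.1.subschemeι z) (by rw [ha, Scheme.Hom.comp_apply])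
    exact ⟨b, hb2⟩
  set l := IsOpenImmersion.lift (op f j hj R) x.1.subschemeι hr with hl
  have hl' : l ≫ op f j hj R = x.1.subschemeι := IsOpenImmersion.lift_fac _ _ _
  have h2 : IsClosedImmersion (l ≫ op f j hj R) := by rw [hl']; infer_instance
  have h3 : IsClosedImmersion l := IsClosedImmersion.of_comp l (op f j hj R)
  obtain ⟨J, e, he⟩ := IsClosedImmersion.Spec_iff.1 h3
  have h4 : e.hom ≫ ziota f j hj J = x.1.subschemeι := by
    rw [← hl', he, Category.assoc]
  have h5 : e.hom ≫ zpi J = x.1.subschemeι ≫ PicF.XTproj f (T k R) := by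
    rw [← h4, Category.assoc, ziota_proj]
  have hJ : Mor2.IsFinLocFreeOfDeg d (zpi J) := by
    rw [← e.inv_hom_id_assoc (zpi J), h5]
    exact isFinLocFreeOfDeg_comp_iso x.2
  refine ⟨J, hJ, Subtype.ext ?_⟩
  rw [ob_val, ← Scheme.Hom.ker_comp_of_isIso e.hom (ziota f j hj J), h4,
    Scheme.IdealSheafData.ker_subschemeι]

end Ob

section Push

variable {R R' : Type u} [CommRing R] [Algebra k R] [CommRing R'] [Algebra k R'] (φ : R →ₐ[k] R')

lemma isPushout_bm : IsPushout (CommRingCat.ofHom φ.toRingHom)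
    (CommRingCat.ofHom (algebraMap R (R ⊗[k] A))) (CommRingCat.ofHom (algebraMap R' (R' ⊗[k] A)))
    (CommRingCat.ofHom (bm A φ)) := by
  refine IsPushout.of_left (h₁₁ := CommRingCat.ofHom (algebraMap k R))
    (v₁₁ := CommRingCat.ofHom (algebraMap k A)) (h₂₁ := CommRingCat.ofHom (incR R)) ?_ ?_
    (CommRingCat.isPushout_tensorProduct k R A)
  · rw [← CommRingCat.ofHom_comp, ← CommRingCat.ofHom_comp, bm_incR]
    have : φ.toRingHom.comp (algebraMap k R) = algebraMap k R' := φ.comp_algebraMap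
    rw [this]
    exact CommRingCat.isPushout_tensorProduct k R' A
  · rw [← CommRingCat.ofHom_comp, ← CommRingCat.ofHom_comp, bm_algebraMap]

lemma isPushout_zpi (J : Ideal (R ⊗[k] A)) : IsPushout (CommRingCat.ofHom φ.toRingHom)
    (CommRingCat.ofHom (algebraMap R (R ⊗[k] A ⧸ J)))
    (CommRingCat.ofHom (algebraMap R' (R' ⊗[k] A ⧸ J.map (bm A φ))))
    (CommRingCat.ofHom (Ideal.quotientMap (J.map (bm A φ)) (bm A φ) Ideal.le_comap_map)) :=
  (isPushout_bm φ).paste_vert
    (isPushout_quot (bm A φ) J (J.map (bm A φ)) Ideal.le_comap_map le_rfl)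

end Push

section Fld

variable {K : Type u} [Field K] [Algebra k K] {d : ℕ}

/-- Over a field the condition is finite dimensionality. -/
theorem isFinLocFreeOfDeg_zpi_iff (J : Ideal (K ⊗[k] A)) :
    Mor2.IsFinLocFreeOfDeg d (zpi J) ↔
      Module.Finite K (K ⊗[k] A ⧸ J) ∧ Module.finrank K (K ⊗[k] A ⧸ J) = d := by
  have hfin : IsFinite (zpi J) ↔ Module.Finite K (K ⊗[k] A ⧸ J) := by
    rw [IsFinite.SpecMap_iff]
    exact RingHom.finite_algebraMap
  have key : ∀ [Module.Finite K (K ⊗[k] A ⧸ J)] (y : Spec (CommRingCat.of K)),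
      (zpi J).finrank y = Module.finrank K (K ⊗[k] A ⧸ J) := by
    intro _ y
    refine (Scheme.Hom.finrank_SpecMap_algebraMap K (K ⊗[k] A ⧸ J) y).trans ?_
    rw [Module.rankAtStalk_eq_finrank_of_free]
    rfl
  constructor
  · rintro ⟨⟨h1, -, -⟩, h2⟩
    have := hfin.1 h1
    obtain ⟨y⟩ : Nonempty (Spec (CommRingCat.of K)) := inferInstance
    exact ⟨this, by rw [← key y, h2 y]⟩
  · rintro ⟨h1, h2⟩
    have h3 : IsFinite (zpi J) := hfin.2 h1
    exact ⟨⟨h3, inferInstance, LocallyOfFinitePresentation.iff_locallyOfFiniteType.2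
      inferInstance⟩, fun y => by rw [key y, h2]⟩

omit [Algebra k K] in
/-- Descent of finite dimensionality. -/
theorem finite_finrank_of_isPushout {F Q₀ Q : Type u} [Field F] [CommRing Q₀] [CommRing Q]
    [Algebra F Q₀] [Algebra K Q] (φ : F →+* K) (q : Q₀ →+* Q)
    (hp : IsPushout (CommRingCat.ofHom φ) (CommRingCat.ofHom (algebraMap F Q₀))
      (CommRingCat.ofHom (algebraMap K Q)) (CommRingCat.ofHom q)) :
    (Module.Finite F Q₀ ↔ Module.Finite K Q) ∧ Module.finrank F Q₀ = Module.finrank K Q := by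
  let : Algebra F K := φ.toAlgebra
  let : Algebra Q₀ Q := q.toAlgebra
  let : Algebra F Q := ((algebraMap K Q).comp φ).toAlgebra
  have h1 : IsScalarTower F K Q := .of_algebraMap_eq' rfl
  have h2 : IsScalarTower F Q₀ Q := .of_algebraMap_eq' (congrArg CommRingCat.Hom.hom hp.w)
  have h3 : Algebra.IsPushout F K Q₀ Q := CommRingCat.isPushout_iff_isPushout.1 hp
  have e : K ⊗[F] Q₀ ≃ₗ[K] Q := h3.out.equiv
  refine ⟨⟨fun h => Module.Finite.equiv e, fun h => ?_⟩, ?_⟩
  · have h6 : Module.Finite K (K ⊗[F] Q₀) := Module.Finite.equiv e.symm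
    exact Module.Finite.of_finite_tensorProduct_of_faithfullyFlat K
  · rw [← e.finrank_eq, Module.finrank_baseChange]

/-- Descent of finite dimensionality. -/
theorem isFinLocFreeOfDeg_zpi_of_map {F : Type u} [Field F] [Algebra k F] (φ : F →ₐ[k] K)
    (J : Ideal (F ⊗[k] A)) (h : Mor2.IsFinLocFreeOfDeg d (zpi (J.map (bm A φ)))) :
    Mor2.IsFinLocFreeOfDeg d (zpi J) := by
  rw [isFinLocFreeOfDeg_zpi_iff] at h ⊢
  obtain ⟨h1, h2⟩ := finite_finrank_of_isPushout _ _ (isPushout_zpi φ J)
  exact ⟨h1.2 h.1, h2.trans h.2⟩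

end Fld

end K221.AffPt
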