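import Mathlib.RingTheory.MvPolynomial.Ideal
import Mathlib.RingTheory.MvPolynomial.Homogeneous
import Mathlib.RingTheory.MvPolynomial.WeightedHomogeneous
import Mathlib.RingTheory.GradedAlgebra.Homogeneous.Ideal
import Mathlib.Tactic

/-!
# The affine cone algebra: degrees and powers of the maximal ideal of the vertex
-/

set_option autoImplicit false

namespace K221.Cone

open MvPolynomial

variable {k : Type*} [Field k] {σ : Type*} {A : Type*} [CommRing A]

/-- The kernel of `φ` is homogeneous. -/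
def HomKer (φ : MvPolynomial σ k →+* A) : Prop :=
  ∀ P, φ P = 0 → ∀ d, φ (homogeneousComponent d P) = 0

/-- The ideal generated by the coordinates. -/
noncomputable def vert (φ : MvPolynomial σ k →+* A) : Ideal A := (idealOfVars σ k).map φ

/-- The elements of degree at most `t`. -/
def Fil (φ : MvPolynomial σ k →+* A) (t : ℕ) (a : A) : Prop :=
  ∃ P : MvPolynomial σ k, P.totalDegree ≤ t ∧ φ P = a

variable {φ : MvPolynomial σ k →+* A}

theorem homKer_of_span {ι : Type*} (g : ι → MvPolynomial σ k) (d : ι → ℕ) (hg : ∀ i, (g i).IsHomogeneous (d i))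
    (h : RingHom.ker φ = Ideal.span (Set.range g)) : HomKer φ := by
  intro P hP n
  letI : GradedRing (homogeneousSubmodule σ k) := MvPolynomial.gradedAlgebra
  have h1 : (Ideal.span (Set.range g)).IsHomogeneous (homogeneousSubmodule σ k) := by
    refine Ideal.homogeneous_span _ _ ?_
    rintro _ ⟨i, rfl⟩
    exact ⟨d i, hg i⟩
  have h2 : P ∈ Ideal.span (Set.range g) := by
    rw [← h]; exact hP
  have h3 := h1 n h2
  rw [← h] at h3
  have h4 : (DirectSum.decompose (homogeneousSubmodule σ k) P n : MvPolynomial σ k) = homogeneousComponent n P := by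
    exact MvPolynomial.decomposition.decompose'_apply _ _
  rw [h4] at h3
  exact h3

theorem fil_C (c : k) : Fil φ 0 (φ (C c)) := ⟨C c, by simp, rfl⟩

theorem fil_X (i : σ) : Fil φ 1 (φ (X i)) := ⟨X i, by simp, rfl⟩

theorem Fil.mono {s t : ℕ} (h : s ≤ t) {a : A} (ha : Fil φ s a) : Fil φ t a := by
  obtain ⟨P, hP, rfl⟩ := ha
  exact ⟨P, hP.trans h, rfl⟩

theorem Fil.add {t : ℕ} {a b : A} (ha : Fil φ t a) (hb : Fil φ t b) : Fil φ t (a + b) := by
  obtain ⟨P, hP, rfl⟩ := ha
  obtain ⟨Q, hQ, rfl⟩ := hb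
  exact ⟨P + Q, (totalDegree_add _ _).trans (max_le hP hQ), map_add _ _ _⟩

theorem Fil.mul {s t : ℕ} {a b : A} (ha : Fil φ s a) (hb : Fil φ t b) : Fil φ (s + t) (a * b) := by
  obtain ⟨P, hP, rfl⟩ := ha
  obtain ⟨Q, hQ, rfl⟩ := hb
  exact ⟨P * Q, (totalDegree_mul _ _).trans (add_le_add hP hQ), map_mul _ _ _⟩

theorem Fil.one : Fil φ 0 (1 : A) := ⟨1, by simp, map_one _⟩

theorem Fil.pow {s : ℕ} {a : A} (ha : Fil φ s a) (n : ℕ) : Fil φ (n * s) (a ^ n) := by
  induction n with
  | zero => rw [zero_mul, pow_zero]; exact Fil.one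
  | succ n ih => rw [pow_succ, Nat.succ_mul]; exact ih.mul ha

theorem X_mem_vert (i : σ) : φ (X i) ∈ vert φ := Ideal.mem_map_of_mem _ (Ideal.subset_span ⟨i, rfl⟩)

theorem homogeneousComponent_eq_zero_of_mem {Q : MvPolynomial σ k} {t : ℕ} (hQ : Q ∈ idealOfVars σ k ^ (t + 1))
    {d : ℕ} (hd : d ≤ t) : homogeneousComponent d Q = 0 := by
  rw [mem_pow_idealOfVars_iff'] at hQ
  ext x
  rw [coeff_homogeneousComponent, coeff_zero]
  split_ifs with h
  · exact hQ x (by omega)
  · rfl

theorem sum_homogeneousComponent_of_le {P : MvPolynomial σ k} {t : ℕ} (hP : P.totalDegree ≤ t) :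
    ∑ d ∈ Finset.range (t + 1), homogeneousComponent d P = P := by
  conv_rhs => rw [← sum_homogeneousComponent P]
  symm
  refine Finset.sum_subset (fun d hd => ?_) (fun d _ hd => ?_)
  · rw [Finset.mem_range] at hd ⊢; omega
  · rw [Finset.mem_range] at hd
    exact homogeneousComponent_eq_zero _ _ (by omega)

/-- In a cone, an element of degree `≤ t` in the `(t + 1)`-st power of the vertex ideal is zero. -/
theorem eq_zero_of_fil (hφ : HomKer φ) (hsurj : Function.Surjective φ) {t : ℕ} {a : A} (ha : Fil φ t a)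
    (hM : a ∈ vert φ ^ (t + 1)) : a = 0 := by
  obtain ⟨P, hP, rfl⟩ := ha
  rw [vert, ← Ideal.map_pow, Ideal.mem_map_iff_of_surjective _ hsurj] at hM
  obtain ⟨Q, hQ, hQP⟩ := hM
  have h1 : φ (P - Q) = 0 := by rw [map_sub, hQP, sub_self]
  have h2 := hφ _ h1
  rw [← sum_homogeneousComponent_of_le hP, map_sum]
  refine Finset.sum_eq_zero fun d hd => ?_
  rw [Finset.mem_range] at hd
  have h3 := h2 d
  rw [map_sub, homogeneousComponent_eq_zero_of_mem hQ (by omega), sub_zero] at h3
  exact h3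

/-- Every element is a polynomial of small degree modulo a power of the vertex ideal. -/
theorem exists_fil (hsurj : Function.Surjective φ) (t : ℕ) (a : A) :
    ∃ P : MvPolynomial σ k, P.totalDegree ≤ t ∧ a - φ P ∈ vert φ ^ (t + 1) := by
  obtain ⟨P, rfl⟩ := hsurj a
  refine ⟨∑ d ∈ Finset.range (t + 1), homogeneousComponent d P, ?_, ?_⟩
  · refine totalDegree_finsetSum_le (fun d hd => ?_)
    rw [Finset.mem_range] at hd
    exact (homogeneousComponent_isHomogeneous d P).totalDegree_le.trans (by omega)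
  · rw [← map_sub, vert, ← Ideal.map_pow]
    refine Ideal.mem_map_of_mem _ ?_
    rw [mem_pow_idealOfVars_iff']
    intro x hx
    rw [coeff_sub, coeff_sum, Finset.sum_eq_single_of_mem x.degree (Finset.mem_range.2 hx), coeff_homogeneousComponent,
      if_pos rfl, sub_self]
    intro d _ hd
    rw [coeff_homogeneousComponent, if_neg (fun h => hd h.symm)]

theorem exists_const (hsurj : Function.Surjective φ) (a : A) : ∃ c : k, a - φ (C c) ∈ vert φ := by
  obtain ⟨P, hP, h⟩ := exists_fil hsurj 0 a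
  rw [Nat.le_zero, totalDegree_eq_zero_iff_eq_C] at hP
  rw [hP, zero_add, pow_one] at h
  exact ⟨_, h⟩

section finite

variable [Finite σ] [Algebra k A] {ψ : MvPolynomial σ k →ₐ[k] A}

theorem finite_quotient (hsurj : Function.Surjective ψ) (t : ℕ) :
    Module.Finite k (A ⧸ vert (ψ : MvPolynomial σ k →+* A) ^ (t + 1)) := by
  let V : Submodule k (MvPolynomial σ k) := restrictTotalDegree σ k t
  have hV : Module.Finite k V := by infer_instance
  let l : V →ₗ[k] (A ⧸ vert (ψ : MvPolynomial σ k →+* A) ^ (t + 1)) :=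
    (Ideal.Quotient.mkₐ k _).toLinearMap ∘ₗ ψ.toLinearMap ∘ₗ V.subtype
  refine Module.Finite.of_surjective l ?_
  intro b
  obtain ⟨a, rfl⟩ := Ideal.Quotient.mk_surjective b
  obtain ⟨P, hP, h⟩ := exists_fil (φ := (ψ : MvPolynomial σ k →+* A)) hsurj t a
  refine ⟨⟨P, (mem_restrictTotalDegree σ t P).2 hP⟩, ?_⟩
  exact (Ideal.Quotient.eq.2 h).symm

end finite

end K221.Cone
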