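import Groth.Agent.HilbD.K221.ConeSec
import Groth.Agent.HilbD.K221.FldPt
import Groth.Agent.LoccohA.OmClosed

/-!
# The vertex chart of a cone in projective space
-/

set_option autoImplicit false
set_option linter.unusedSectionVars false
universe u

open CategoryTheory AlgebraicGeometry Limits TopologicalSpace Opposite MvPolynomial

namespace K221.ConeChart

open LefPen Groth.Agent Groth.Agent.Lefpen.H705.ChartPoly Groth.Agent.Lefpen.H705.HypIdeal
open Groth.Agent.Sga5 Groth.Agent.Ega4dA.GenSec
open K221.Cone K221.ConeSec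

variable {k : Type u} [Field k] {N : ℕ} {X : Scheme.{u}} (ι : X ⟶ CohB1.ProjSpace N k)
  {d : ℕ} {a : Fin d → ℕ} (G : ∀ j : Fin d, Form N k (a j))

theorem ker_toX [IsClosedImmersion ι] (hker : ι.ker = ciIdeal G) (j : Fin (N + 1)) :
    RingHom.ker (toX ι j) = Ideal.span (Set.range fun i => ProjChart.dehom N k j (G i).1) := by
  have h1 : RingHom.ker (ι.app (chart N k j)).hom = Ideal.span (Set.range fun i => LefPen.dehom (G i) j) := by
    have h2 := ι.ker_apply ⟨chart N k j, isAffineOpen_chart j⟩
    rw [hker, Lefpen.H718.Chart.ciIdeal_ideal_of_le G j _ le_rfl] at h2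
    refine h2.symm.trans ?_
    congr 1
  have h4 : RingHom.ker (toX ι j) = Ideal.comap (polyToChart j) (RingHom.ker (ι.app (chart N k j)).hom) := rfl
  rw [h4, h1]
  have h3 : Ideal.span (Set.range fun i => LefPen.dehom (G i) j) =
      Ideal.map (polyToChart j) (Ideal.span (Set.range fun i => ProjChart.dehom N k j (G i).1)) := by
    rw [Ideal.map_span, ← Set.range_comp]
    congr 2
    funext i
    exact dehom_eq (G i) j
  rw [h3, Ideal.comap_map_of_bijective _ (polyToChart_bijective j)]

variable (hG : ∀ j, ∀ mono ∈ (G j).1.support, mono (Fin.last N) = 0)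

include hG in
theorem homKer_toX [IsClosedImmersion ι] (hker : ι.ker = ciIdeal G) : HomKer (toX ι (Fin.last N)) :=
  homKer_of_span (fun i => ProjChart.dehom N k (Fin.last N) (G i).1) a
    (fun i => isHomogeneous_dehom _ (G i).2 (hG i)) (ker_toX ι G hker _)

theorem nonempty_iff [IsClosedImmersion ι] (j : Fin (N + 1)) :
    ((U ι j : X.Opens) : Set X).Nonempty ↔ (1 : MvPolynomial (Fin N) k) ∉ RingHom.ker (toX ι j) := by
  rw [RingHom.mem_ker, map_one]
  have haff : IsAffineOpen (U ι j) := (isAffineOpen_chart j).preimage ι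
  constructor
  · rintro hne h
    have := hne.to_subtype
    have : Nontrivial Γ(X, U ι j) := by
      obtain ⟨x, hx⟩ := hne
      exact (X.presheaf.germ (U ι j) x hx).hom.domain_nontrivial
    exact one_ne_zero h
  · intro h
    have h1 : Nontrivial Γ(X, U ι j) := ⟨1, 0, h⟩
    obtain ⟨p⟩ : Nonempty (PrimeSpectrum Γ(X, U ι j)) := inferInstance
    have h2 := haff.opensRange_fromSpec
    refine ⟨haff.fromSpec p, ?_⟩
    have h3 : haff.fromSpec p ∈ haff.fromSpec.opensRange := ⟨p, rfl⟩
    rw [h2] at h3
    exact h3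

include hG in
/-- The vertex lies on the cone. -/
theorem nonempty_vertex [IsClosedImmersion ι] [Nonempty X] (hker : ι.ker = ciIdeal G) :
    ((U ι (Fin.last N) : X.Opens) : Set X).Nonempty := by
  rw [nonempty_iff, ker_toX ι G hker]
  intro h1
  by_cases hc : ∃ i, a i = 0 ∧ (G i).1 ≠ 0
  · obtain ⟨i, hi0, hi⟩ := hc
    obtain ⟨x⟩ := ‹Nonempty X›
    have hx : x ∈ ⨆ j : Fin (N + 1), U ι j := by rw [iSup_U]; trivial
    obtain ⟨j, hj⟩ := Opens.mem_iSup.1 hx
    have h2 : ((U ι j : X.Opens) : Set X).Nonempty := ⟨x, hj⟩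
    rw [nonempty_iff, ker_toX ι G hker] at h2
    apply h2
    have h3 : (G i).1.totalDegree = 0 := by
      have := (show (G i).1.IsHomogeneous (a i) from (G i).2).totalDegree_le
      omega
    rw [totalDegree_eq_zero_iff_eq_C] at h3
    have h4 : coeff 0 (G i).1 ≠ 0 := by
      intro h5
      rw [h5, map_zero] at h3
      exact hi h3
    have h6 : ProjChart.dehom N k j (G i).1 ∈ Ideal.span (Set.range fun i => ProjChart.dehom N k j (G i).1) :=
      Ideal.subset_span ⟨i, rfl⟩
    rw [h3, ProjChart.dehom_C] at h6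
    rw [← Ideal.eq_top_iff_one]
    exact Ideal.eq_top_of_isUnit_mem _ h6 ((isUnit_iff_ne_zero.2 h4).map C)
  · push Not at hc
    have h2 : Ideal.span (Set.range fun i => ProjChart.dehom N k (Fin.last N) (G i).1) ≤ idealOfVars (Fin N) k ^ 1 := by
      rw [Ideal.span_le]
      rintro _ ⟨i, rfl⟩
      rw [SetLike.mem_coe, mem_pow_idealOfVars_iff]
      intro s hs
      have h3 : (ProjChart.dehom N k (Fin.last N) (G i).1).IsHomogeneous (a i) :=
        isHomogeneous_dehom _ (G i).2 (hG i)
      by_contra h4
      have h5 : s.degree = 0 := by omega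
      have h6 := h3 (mem_support_iff.1 hs)
      rw [show (1 : Fin N → ℕ) = fun _ => 1 from rfl, ← Finsupp.degree_eq_weight_one] at h6
      have h7 : a i = 0 := by
        rw [← h6]; exact h5
      change s ∈ (ProjChart.dehom N k (Fin.last N) (G i).1).support at hs
      rw [hc i h7, map_zero] at hs
      simp at hs
    have h3 := h2 h1
    rw [mem_pow_idealOfVars_iff] at h3
    have h4 := h3 0 (by simp)
    simp at h4

section Dim

set_option linter.overlappingInstances false

variable [X.Over (Spec (CommRingCat.of k))] [IsIntegral X]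
  [LocallyOfFiniteType (X ↘ (Spec (CommRingCat.of k)))]

open Groth.Agent.Sga4h.GeoDim K221.FldPt

/-- The transcendence degree of the ring of functions of an affine open. -/
theorem trdeg_eq {n : ℕ} (hdim : topologicalKrullDim X = n) {V : X.Opens} (hV : IsAffineOpen V)
    (hne : (V : Set X).Nonempty) [Algebra k Γ(X, V)]
    (halg : algebraMap k Γ(X, V) = (X.presheaf.map (homOfLE le_top : V ⟶ ⊤).op).hom.comp
      (Coh.toGlobal (X ↘ (Spec (CommRingCat.of k))))) : Algebra.trdeg k Γ(X, V) = n := by
  have hneV : Nonempty V := hne.to_subtype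
  obtain ⟨r, h1, h2⟩ := exists_dim_closure (X ↘ (Spec (CommRingCat.of k))) (genericPoint X)
  have h3 : (closure {genericPoint X} : Set X) = Set.univ := genericPoint_spec X
  have h4 : topologicalKrullDim (closure {genericPoint X} : Set X) = topologicalKrullDim X := by
    rw [h3]
    exact (Homeomorph.Set.univ X).isHomeomorph.topologicalKrullDim_eq
  rw [h4, hdim] at h2
  have h5 : n = r := by exact_mod_cast h2
  subst h5
  have h6 : hV.fromSpec ≫ (X ↘ (Spec (CommRingCat.of k))) =
      Spec.map (CommRingCat.ofHom (algebraMap k Γ(X, V))) := by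
    rw [halg]
    exact Groth.Agent.LoccohA.OmClosed.fromSpec_comp _ hV
  have h7 := trdegAt_comp hV.fromSpec (X ↘ (Spec (CommRingCat.of k))) (genericPoint (Spec Γ(X, V)))
  have h8 : hV.fromSpec (genericPoint (Spec Γ(X, V))) = genericPoint X :=
    genericPoint_eq_of_isOpenImmersion hV.fromSpec
  rw [h6, h8, h1, trdegAt_eq_zero_of_isPreimmersion hV.fromSpec, add_zero] at h7
  have : IsDomain (CommRingCat.of k) := inferInstanceAs (IsDomain k)
  have h9 := trdegAt_genericPoint_Spec (CommRingCat.ofHom (algebraMap k Γ(X, V)))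
    (algebraMap k Γ(X, V)).injective
  rw [← h7]
  refine Eq.trans ?_ h9.symm
  exact Groth.Agent.CycB.TrdegAlg.trd_algebraMap.symm

theorem exists_chart {n : ℕ} (hn : 1 ≤ n) (hdim : topologicalKrullDim X = n)
    [IsProper (X ↘ (Spec (CommRingCat.of k)))] [IsClosedImmersion ι]
    (hne : ((U ι (Fin.last N) : X.Opens) : Set X).Nonempty) :
    ∃ i : Fin N, ((U ι (Fin.last N) ⊓ U ι (Fin.castSucc i) : X.Opens) : Set X).Nonempty := by
  by_cases hc : ∃ i : Fin N, ((U ι (Fin.castSucc i) : X.Opens) : Set X).Nonempty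
  · obtain ⟨i, hi⟩ := hc
    exact ⟨i, nonempty_preirreducible_inter (U ι (Fin.last N)).2 (U ι (Fin.castSucc i)).2 hne hi⟩
  · exfalso
    push Not at hc
    have htop : U ι (Fin.last N) = ⊤ := by
      rw [eq_top_iff]
      intro x _
      have hx : x ∈ ⨆ j : Fin (N + 1), U ι j := by rw [iSup_U]; trivial
      obtain ⟨j, hj⟩ := Opens.mem_iSup.1 hx
      cases j using Fin.lastCases with
      | last => exact hj
      | cast i =>
        have h1 : x ∈ ((U ι (Fin.castSucc i) : X.Opens) : Set X) := hj
        rw [hc i] at h1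
        exact h1.elim
    have haff : IsAffineOpen (U ι (Fin.last N)) := (isAffineOpen_chart _).preimage ι
    rw [htop] at haff
    have : IsAffine X := by
      have : IsAffine ((⊤ : X.Opens) : Scheme.{u}) := haff
      exact IsAffine.of_isIso (Scheme.topIso X).inv
    have hfin : IsFinite (X ↘ (Spec (CommRingCat.of k))) := IsFinite.iff_isProper_and_isAffineHom.2 ⟨inferInstance, inferInstance⟩
    obtain ⟨r, h1, h2⟩ := exists_dim_closure (X ↘ (Spec (CommRingCat.of k))) (genericPoint X)
    have h3 : (closure {genericPoint X} : Set X) = Set.univ := genericPoint_spec X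
    have h4 : topologicalKrullDim (closure {genericPoint X} : Set X) = topologicalKrullDim X := by
      rw [h3]
      exact (Homeomorph.Set.univ X).isHomeomorph.topologicalKrullDim_eq
    rw [h4, hdim] at h2
    have h5 : n = r := by exact_mod_cast h2
    subst h5
    rw [trdegAt_eq_zero_of_locallyQuasiFinite] at h1
    have h6 : n = 0 := by exact_mod_cast h1.symm
    omega

end Dim

end K221.ConeChart
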