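import Groth.Agent.Pic13.K243.Diff

/-!
# The numerical comparison
-/

set_option autoImplicit false

namespace K221.ConeNum

open K243.Diff

/-- If every step satisfies the dimension bound then `F` grows at most like `n t ^ 2`. -/
theorem le_of_step {F : ℕ → ℕ} (h0 : F 0 = 0) (n : ℕ)
    (h : ∀ t c q, F t + (c + q) = F (t + 1) → c * q ≤ (F t + c) * n) (t : ℕ) :
    F t ≤ n * t ^ 2 + (n + 1) * t := by
  induction t with
  | zero => rw [h0]; exact Nat.zero_le _
  | succ t ih =>
    by_contra hc
    push Not at hc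
    have h1 : F t + ((n * t + n + 1) + (n * t + n + 1)) ≤ F (t + 1) := by nlinarith
    obtain ⟨r, hr⟩ := Nat.exists_eq_add_of_le h1
    have h2 := h t (n * t + n + 1) (n * t + n + 1 + r) (by omega)
    have h3 : n * F t ≤ n * (n * t ^ 2 + (n + 1) * t) := Nat.mul_le_mul_left _ ih
    nlinarith [Nat.zero_le (r * (n * t)), Nat.zero_le (r * n)]

/-- A function with positive `r`-th difference is eventually positive. -/
theorem pos_of_nab {r : ℕ} (hr : 1 ≤ r) {g : ℤ → ℤ} {M : ℤ} (h : ∀ m, M ≤ m → 1 ≤ nab^[r] g m) :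
    ∃ M', ∀ m, M' ≤ m → 1 ≤ g m := by
  induction r, hr using Nat.le_induction generalizing g with
  | base =>
    have key : ∀ j : ℕ, g M + j ≤ g (M + j) := by
      intro j
      induction j with
      | zero => simp
      | succ j ih =>
        have h1 := h (M + (j + 1 : ℕ)) (by push_cast; omega)
        rw [Function.iterate_one, nab_apply] at h1
        have h2 : M + ((j + 1 : ℕ) : ℤ) - 1 = M + j := by push_cast; ring
        rw [h2] at h1
        push_cast at h1 ih ⊢
        linarith
    refine ⟨M + (1 - g M).toNat, fun m hm => ?_⟩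
    obtain ⟨j, hj⟩ := Int.le.dest (show M ≤ m by omega)
    have := key j
    rw [hj] at this
    omega
  | succ r hr ih =>
    have h1 : ∃ M', ∀ m, M' ≤ m → 1 ≤ nab g m := ih fun m hm => by
      have := h m hm
      rwa [Function.iterate_succ_apply] at this
    obtain ⟨M', hM'⟩ := h1
    have key : ∀ j : ℕ, g M' + j ≤ g (M' + j) := by
      intro j
      induction j with
      | zero => simp
      | succ j ih =>
        have h1 := hM' (M' + (j + 1 : ℕ)) (by push_cast; omega)
        rw [nab_apply] at h1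
        have h2 : M' + ((j + 1 : ℕ) : ℤ) - 1 = M' + j := by push_cast; ring
        rw [h2] at h1
        push_cast at h1 ih ⊢
        linarith
    refine ⟨M' + (1 - g M').toNat, fun m hm => ?_⟩
    obtain ⟨j, hj⟩ := Int.le.dest (show M' ≤ m by omega)
    have := key j
    rw [hj] at this
    omega

/-- The quadratic upper bound at `m + 1`. -/
def quad (n : ℤ) (m : ℤ) : ℤ := n * (m + 1) ^ 2 + (n + 1) * (m + 1)

theorem nab_quad (n : ℤ) : nab (quad n) = fun m => 2 * n * m + 2 * n + 1 := by
  funext m; simp only [nab, quad]; ring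

theorem nab_nab_quad (n : ℤ) : nab (nab (quad n)) = fun _ => 2 * n := by
  rw [nab_quad]; funext m; simp only [nab]; ring

theorem nab_three_quad (n : ℤ) : nab (nab (nab (quad n))) = 0 := by
  rw [nab_nab_quad]; funext m; simp [nab]

theorem nab_zero : nab 0 = 0 := by funext m; simp [nab]

theorem nab_iter_zero (r : ℕ) : nab^[r] 0 = 0 := by
  induction r with
  | zero => rfl
  | succ r ih => rw [Function.iterate_succ_apply, nab_zero, ih]

/-- A polynomial function with `n`-th difference `d` beats the quadratic bound. -/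
theorem exists_gt {n : ℕ} {f : ℤ → ℤ} {d : ℤ} (h : (2 < n ∧ 1 < d) ∨ (n = 2 ∧ 4 < d))
    (h0 : nab^[n] f 0 = d) (h1 : nab^[n + 1] f = 0) :
    ∃ M : ℤ, ∀ m, M ≤ m → quad n m < f m := by
  have h2 : ∀ m, nab^[n] f m = d := by
    intro m
    rw [Function.iterate_succ_apply'] at h1
    rw [const_of_nab h1 m 0, h0]
  have hn : 1 ≤ n := by omega
  have h3 : ∀ m : ℤ, (0 : ℤ) ≤ m → 1 ≤ nab^[n] (f - quad n) m := by
    intro m _
    rw [nab_iter_sub, Pi.sub_apply, h2]
    rcases h with ⟨hn2, hd⟩ | ⟨rfl, hd⟩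
    · obtain ⟨r, rfl⟩ := Nat.exists_eq_add_of_lt hn2
      have h4 : nab^[2 + r + 1] (quad ((2 + r + 1 : ℕ) : ℤ)) = 0 := by
        rw [show 2 + r + 1 = r + 3 by ring, Function.iterate_add_apply]
        change nab^[r] (nab (nab (nab _))) = 0
        rw [nab_three_quad, nab_iter_zero]
      rw [h4, Pi.zero_apply]
      omega
    · change 1 ≤ d - nab (nab (quad ((2 : ℕ) : ℤ))) m
      rw [nab_nab_quad]
      push_cast
      omega
  obtain ⟨M, hM⟩ := pos_of_nab hn h3
  refine ⟨M, fun m hm => ?_⟩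
  have := hM m hm
  rw [Pi.sub_apply] at this
  omega

/-- Some step violates the dimension bound. -/
theorem exists_step {n : ℕ} {f : ℤ → ℤ} {d : ℤ} (h : (2 < n ∧ 1 < d) ∨ (n = 2 ∧ 4 < d))
    (h0 : nab^[n] f 0 = d) (h1 : nab^[n + 1] f = 0) {F : ℕ → ℕ} (hF0 : F 0 = 0) {M : ℕ}
    (hF : ∀ m : ℕ, M ≤ m → f m ≤ F (m + 1)) :
    ∃ t c q : ℕ, F t + (c + q) = F (t + 1) ∧ (F t + c) * n < c * q := by
  by_contra hc
  push Not at hc
  have h2 := le_of_step hF0 n hc
  obtain ⟨M', hM'⟩ := exists_gt h h0 h1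
  let m : ℕ := max M M'.toNat
  have h3 := hF m (le_max_left _ _)
  have h4 := hM' m (by
    have := le_max_right M M'.toNat
    omega)
  have h5 := h2 (m + 1)
  have h6 : (F (m + 1) : ℤ) ≤ quad n m := by
    rw [quad]
    exact_mod_cast h5
  omega

end K221.ConeNum
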