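import Groth.Agent.HilbD.K221.ConeSec
import Groth.Agent.HilbD.K221.ConeNum
import Groth.Agent.Picfga.ChiCech
import Groth.Agent.Pic13.K243.Hilb
import Groth.Agent.S0051

/-!
# Global sections of `O(m)` on a cone and its Hilbert polynomial
-/

set_option autoImplicit false
set_option linter.unusedSectionVars false
universe u

open CategoryTheory AlgebraicGeometry Limits TopologicalSpace Opposite MvPolynomial

namespace K221.ConeEuler

open LefPen Groth.Agent Groth.Agent.Lefpen.H705.ChartPoly Groth.Agent.Lefpen.H705.HypIdeal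
open Groth.Agent.Sga5 Groth.Agent.Ega4dA.GenSec Groth.Agent.Smoothlim.PowSec
open K221.Cone K221.ConeSec Groth.Agent.Picfga.ChiCech Groth.Agent.Fga.PicMon

variable {k : Type u} [Field k] {N : ℕ} {X : Scheme.{u}} [X.Over (Spec (CommRingCat.of k))]
  (ι : X ⟶ CohB1.ProjSpace N k)

section Inj

variable [IsIntegral X] [IsClosedImmersion ι] [Algebra k Γ(X, U ι (Fin.last N))]

/-- The coordinate of a section of `O(m)` on the vertex chart, modulo a power of the vertex ideal. -/
noncomputable def coord (halg : algebraMap k Γ(X, U ι (Fin.last N)) = str k (U ι (Fin.last N))) (m : ℕ) : SecA k (CohB1.tensorPow (OX1 ι) m) ⊤ →ₗ[k]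
    (Γ(X, U ι (Fin.last N)) ⧸ vert (toX ι (Fin.last N)) ^ (m + 1)) where
  toFun s := Ideal.Quotient.mk _ ((genEquiv (isGen_powSec (isGen_tX ι (Fin.last N)) m)).symm
    (res _ le_top (toSecA.symm s)))
  map_add' s t := by
    rw [map_add, res_add, map_add, map_add]
  map_smul' c s := by
    rw [smul_def, AddEquiv.symm_apply_apply, res_smul, map_smul, smul_eq_mul, map_mul, RingHom.id_apply, Algebra.smul_def]
    congr 1
    have h2 : resO X le_top (str k ⊤ c) = str k (U ι (Fin.last N)) c := ores_str k le_top c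
    rw [h2, ← halg]
    rfl

theorem finrank_H0_le (halg : algebraMap k Γ(X, U ι (Fin.last N)) = str k (U ι (Fin.last N)))
    (hφ : HomKer (toX ι (Fin.last N))) (i : Fin N)
    (hne : ((U ι (Fin.last N) ⊓ U ι (Fin.castSucc i) : X.Opens) : Set X).Nonempty) (m : ℕ)
    (hfin : Module.Finite k (Γ(X, U ι (Fin.last N)) ⧸ vert (toX ι (Fin.last N)) ^ (m + 1))) :
    Module.finrank k (Coh.HH X (CohB1.tensorPow (OX1 ι) m) 0) ≤
      Module.finrank k (Γ(X, U ι (Fin.last N)) ⧸ vert (toX ι (Fin.last N)) ^ (m + 1)) := by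
  rw [(h0Top k (CohB1.tensorPow (OX1 ι) m)).finrank_eq]
  refine LinearMap.finrank_le_finrank_of_injective (f := coord ι halg m) ?_
  rw [injective_iff_map_eq_zero]
  intro s hs
  refine eq_zero_of_mem ι hφ i hne m s _ ?_ (Ideal.Quotient.eq_zero_iff_mem.1 hs)
  exact (genEquiv (isGen_powSec (isGen_tX ι (Fin.last N)) m)).apply_symm_apply _

end Inj

section Euler

variable [IsClosedImmersion ι] (hιk : ι ≫ CohB1.ProjSpace.toSpec N k = X ↘ (Spec (CommRingCat.of k)))

theorem o_natCast (m : ℕ) : K243.Base.o ι (m : ℤ) = K243.Base.o ι 1 ^ m := by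
  induction m with
  | zero => rw [pow_zero, Nat.cast_zero, K243.Base.o_zero]
  | succ m ih => rw [pow_succ, ← ih, ← K243.Base.o_add]; norm_cast

include hιk in
/-- For large `m`, the Euler characteristic of `O(m)` is the dimension of the space of global sections. -/
theorem exists_hf_eq (n : ℕ) : ∃ m₀ : ℕ, ∀ m : ℕ, m₀ ≤ m →
    K243.Hilb.hf k ι n (Coh.structureModule X) (m : ℤ) =
      Module.finrank k (Coh.HH X (CohB1.tensorPow (OX1 ι) m) 0) := by
  have := K243.Base.isProper_of ι hιk
  have hcoh : Coh.IsCoh (Coh.structureModule X) :=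
    K243.Hilb.isCoh_invertible Fdesc.LocGen.isInvertible_structureModule
  obtain ⟨m₀, h⟩ := (Groth.Agent.S0051.result k X (X ↘ (Spec (CommRingCat.of k))) (OX1 ι)
    (K243.Base.isInvertible_O ι 1)).mp (K243.Base.isAmple_O ι) _ hcoh
  refine ⟨m₀, fun m hm => ?_⟩
  have h1 : mc (Pic13.twistOn k ι (Coh.structureModule X) (m : ℤ)) =
      mc (CohB1.tensorMod (Coh.structureModule X) (CohB1.tensorPow (OX1 ι) m)) := by
    rw [K243.Base.mc_twistOn, o_natCast, mc_tensor, mc_tensorPow]
    rfl
  obtain ⟨e⟩ := (mc_eq_iff _ _).1 h1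
  have h2 : K243.Hilb.hf k ι n (Coh.structureModule X) (m : ℤ) =
      FGA.eulerCharLE k X (CohB1.tensorMod (Coh.structureModule X) (CohB1.tensorPow (OX1 ι) m)) n :=
    euler_iso k X e n
  have h3 : mc (CohB1.tensorMod (Coh.structureModule X) (CohB1.tensorPow (OX1 ι) m)) =
      mc (CohB1.tensorPow (OX1 ι) m) := by
    rw [mc_tensor, mc_one, one_mul]
  obtain ⟨e'⟩ := (mc_eq_iff _ _).1 h3
  rw [h2, FGA.eulerCharLE, Finset.sum_eq_single_of_mem 0 (by simp), pow_zero, one_mul,
    (hmapEquiv k X e' 0).finrank_eq]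
  intro p _ hp
  have := h m hm p (Nat.pos_of_ne_zero hp)
  rw [Module.finrank_zero_of_subsingleton, Nat.cast_zero, mul_zero]

end Euler

end K221.ConeEuler
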