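import Groth.Agent.HilbD.K221.ConeAlg
import Groth.Agent.Lefpen.H397.TwistGen
import Groth.Agent.Smoothlim.PowSec

/-!
# Sections of `O(m)` on a cone in projective space

`ι : X ⟶ P^N`.  `U ι j = ι⁻¹ D_+(T_j)`, `toX ι j : k[x] → Γ(X, U_j)`, `tX ι j` the section `T_j` of `O(1)`.
-/

set_option autoImplicit false
set_option linter.unusedSectionVars false
universe u

open CategoryTheory AlgebraicGeometry Limits TopologicalSpace Opposite MvPolynomial

namespace K221.ConeSec

open LefPen Groth.Agent Groth.Agent.Lefpen.H705.ChartPoly Groth.Agent.Lefpen.H705.HypIdeal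
open Groth.Agent.Sga5 Groth.Agent.Ega4dA.GenSec Groth.Agent.Lefpen.H397.TwistGen Groth.Agent.Smoothlim.PowSec
open K221.Cone

variable {k : Type u} [Field k] {N : ℕ} {X : Scheme.{u}} (ι : X ⟶ CohB1.ProjSpace N k)

/-- The chart `ι⁻¹ D_+(T_j)`. -/
noncomputable abbrev U (j : Fin (N + 1)) : X.Opens := ι ⁻¹ᵁ chart N k j

/-- Polynomials in the affine coordinates as functions on the chart. -/
noncomputable def toX (j : Fin (N + 1)) : MvPolynomial (Fin N) k →+* Γ(X, U ι j) :=
  (ι.app (chart N k j)).hom.comp (polyToChart j)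

/-- The coordinate `T_i / T_j`. -/
noncomputable def co (i j : Fin (N + 1)) : Γ(X, U ι j) := toX ι j (ProjChart.dehom N k j (MvPolynomial.X i))

/-- The restriction of `O(1)`. -/
noncomputable abbrev OX1 : X.Modules := (Scheme.Modules.pullback ι).obj (Twist.twistProjSpace N k 1)

/-- The section `T_j` of `O(1)`. -/
noncomputable def tX (j : Fin (N + 1)) : Γ(OX1 ι, U ι j) :=
  Fdesc.LocGen.pullSec ι (tP j)

theorem isGen_tX (j : Fin (N + 1)) : IsGen (OX1 ι) (U ι j) (tX ι j) := by
  have h1 : Fdesc.LocGen.IsGen (tP (k := k) (N := N) j) := isGen_tP j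
  exact h1.pullSec ι

theorem tX_rel (i j : Fin (N + 1)) {V : X.Opens} (hi : V ≤ U ι i) (hj : V ≤ U ι j) :
    res (OX1 ι) hi (tX ι i) = resO _ hj (co ι i j) • res (OX1 ι) hj (tX ι j) := by
  have hV : V ≤ ι ⁻¹ᵁ (chart N k i ⊓ chart N k j) := fun x hx => ⟨hi hx, hj hx⟩
  have h1 := tP_rel (k := k) (N := N) i j (inf_le_left : chart N k i ⊓ chart N k j ≤ chart N k i) inf_le_right
  have h2 : res (OX1 ι) hV (Fdesc.LocGen.pullSec ι (res (Twist.twistProjSpace N k 1)
      (inf_le_left : chart N k i ⊓ chart N k j ≤ chart N k i) (tP i))) =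
      res (OX1 ι) hV (Fdesc.LocGen.pullSec ι (resO _ inf_le_right
        (polyToChart j (ProjChart.dehom N k j (MvPolynomial.X i))) • res (Twist.twistProjSpace N k 1) inf_le_right (tP j))) :=
    congrArg (fun t => res (OX1 ι) hV (Fdesc.LocGen.pullSec ι t)) h1
  rw [Fdesc.LocGen.pullSec_smul] at h2
  have e1 : Fdesc.LocGen.pullSec ι (res (Twist.twistProjSpace N k 1)
      (inf_le_left : chart N k i ⊓ chart N k j ≤ chart N k i) (tP i)) =
      res (OX1 ι) (ι.preimage_mono (inf_le_left : chart N k i ⊓ chart N k j ≤ chart N k i)) (tX ι i) :=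
    (Fdesc.LocGen.res_pullSec ι (inf_le_left : chart N k i ⊓ chart N k j ≤ chart N k i) (tP i)).symm
  have e2 : Fdesc.LocGen.pullSec ι (res (Twist.twistProjSpace N k 1)
      (inf_le_right : chart N k i ⊓ chart N k j ≤ chart N k j) (tP j)) =
      res (OX1 ι) (ι.preimage_mono (inf_le_right : chart N k i ⊓ chart N k j ≤ chart N k j)) (tX ι j) :=
    (Fdesc.LocGen.res_pullSec ι (inf_le_right : chart N k i ⊓ chart N k j ≤ chart N k j) (tP j)).symm
  rw [e1, e2, res_smul, res_res, res_res] at h2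
  rw [h2]
  congr 1
  have h3 := ι.naturality (homOfLE (inf_le_right : chart N k i ⊓ chart N k j ≤ chart N k j)).op
  have h4 := congr($(h3).hom (polyToChart j (ProjChart.dehom N k j (MvPolynomial.X i))))
  have h5 := congrArg (resO X hV) h4
  refine h5.trans ?_
  exact resO_resO _ _ _

/-- Change of chart for forms. -/
theorem toX_rel {d : ℕ} (G : Form N k d) (i j : Fin (N + 1)) {V : X.Opens} (hi : V ≤ U ι i) (hj : V ≤ U ι j) :
    resO _ hi (toX ι i (ProjChart.dehom N k i G.1)) =
      resO _ hi (co ι j i) ^ d * resO _ hj (toX ι j (ProjChart.dehom N k j G.1)) := by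
  have hV : V ≤ ι ⁻¹ᵁ (chart N k i ⊓ chart N k j) := fun x hx => ⟨hi hx, hj hx⟩
  have key : ∀ (l : Fin (N + 1)) (h : chart N k i ⊓ chart N k j ≤ chart N k l) (h' : V ≤ U ι l)
      (f : Γ(CohB1.ProjSpace N k, chart N k l)),
      resO X hV ((ι.app (chart N k i ⊓ chart N k j)).hom (Fdesc.LocGen.ores h f)) =
      resO X h' ((ι.app (chart N k l)).hom f) := by
    intro l h h' f
    have h3 := ι.naturality (homOfLE h).op
    have h4 := congr($(h3).hom f)
    have h5 := congrArg (resO X hV) h4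
    refine h5.trans ?_
    exact resO_resO _ _ _
  have h1 := ores_dehom G i j (chart N k i ⊓ chart N k j) inf_le_left inf_le_right
  have h2 := congrArg (fun f => resO X hV ((ι.app (chart N k i ⊓ chart N k j)).hom f)) h1
  rw [map_mul, map_pow, resO_mul, key] at h2
  have h6 : resO X hV ((ι.app (chart N k i ⊓ chart N k j)).hom
      (Fdesc.LocGen.ores inf_le_left (ratio i j)) ^ d) =
      resO X hV ((ι.app (chart N k i ⊓ chart N k j)).hom
      (Fdesc.LocGen.ores inf_le_left (ratio i j))) ^ d := map_pow (X.presheaf.map (homOfLE hV).op).hom _ _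
  rw [h6, key, key] at h2
  have h7 : (ι.app (chart N k i)).hom (LefPen.dehom G i) = toX ι i (ProjChart.dehom N k i G.1) := by
    rw [dehom_eq]; rfl
  have h8 : (ι.app (chart N k j)).hom (LefPen.dehom G j) = toX ι j (ProjChart.dehom N k j G.1) := by
    rw [dehom_eq]; rfl
  have h9 : (ι.app (chart N k i)).hom (ratio i j) = co ι j i := by
    rw [ratio, dehom_eq]; rfl
  rw [h7, h8, h9] at h2
  exact h2

theorem toX_C {g : X ⟶ Spec (CommRingCat.of k)} (hg : ι ≫ CohB1.ProjSpace.toSpec N k = g) (j : Fin (N + 1))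
    (c : k) : toX ι j (C c) =
      (X.presheaf.map (homOfLE le_top : U ι j ⟶ ⊤).op).hom (Coh.toGlobal g c) := by
  subst hg
  have h1 := Lefpen.H718.Chart.toSpec_appLE (N := N) (k := k) j c
  have h2 : toX ι j (C c) = (ι.app (chart N k j)).hom (polyToChart j (C c)) := rfl
  rw [h2, ← h1]
  have h3 := Scheme.Hom.appLE_comp_appLE ι (CohB1.ProjSpace.toSpec N k) ⊤ (chart N k j) (U ι j) le_top le_rfl
  rw [← Scheme.Hom.app_eq_appLE] at h3
  exact congr($(h3).hom ((Scheme.ΓSpecIso (CommRingCat.of k)).inv.hom c))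

theorem toX_surjective [IsClosedImmersion ι] (j : Fin (N + 1)) : Function.Surjective (toX ι j) :=
  (ι.app_surjective (chart N k j) (isAffineOpen_chart j)).comp (polyToChart_bijective j).2

theorem exists_form [IsClosedImmersion ι] (j : Fin (N + 1)) (f : Γ(X, U ι j)) :
    ∃ (d : ℕ) (G : Form N k d), toX ι j (ProjChart.dehom N k j G.1) = f := by
  obtain ⟨p, rfl⟩ := toX_surjective ι j f
  obtain ⟨d, x, hx, h⟩ := HomogeneousLocalization.Away.mk_surjective _ (ProjChart.X_mem N k j) (ProjChart.ofPoly N k j p)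
  have hx' : x.IsHomogeneous d := by simpa using hx
  refine ⟨d, ⟨x, hx'⟩, ?_⟩
  congr 1
  apply (ProjChart.chartEquiv N k j).injective
  change ProjChart.ofPoly N k j _ = ProjChart.ofPoly N k j p
  rw [← h]
  exact ofPoly_dehom (⟨x, hx'⟩ : Form N k d) j

theorem totalDegree_dehom_le (j : Fin (N + 1)) (P : MvPolynomial (Fin (N + 1)) k) :
    (ProjChart.dehom N k j P).totalDegree ≤ P.totalDegree := by
  have h1 : ∀ i : Fin (N + 1), (ProjChart.dehom N k j (X i)).totalDegree ≤ 1 := by
    intro i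
    obtain rfl | ⟨l, rfl⟩ := Fin.eq_self_or_eq_succAbove j i
    · rw [ProjChart.dehom_X_self, totalDegree_one]; exact Nat.zero_le _
    · rw [ProjChart.dehom_X, totalDegree_X]
  conv_lhs => rw [P.as_sum, map_sum]
  refine totalDegree_finsetSum_le fun s hs => ?_
  rw [monomial_eq, map_mul, ProjChart.dehom_C, Finsupp.prod_fintype _ _ (by simp), map_prod]
  refine (totalDegree_mul _ _).trans ?_
  rw [totalDegree_C, zero_add]
  refine (totalDegree_finsetProd _ _).trans ?_
  refine le_trans (Finset.sum_le_sum (g := fun i => s i) fun i _ => ?_) ?_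
  · rw [map_pow]
    refine (totalDegree_pow _ _).trans ?_
    exact (Nat.mul_le_mul_left _ (h1 i)).trans (mul_one _).le
  · have h2 := le_totalDegree hs
    rw [Finsupp.sum_fintype _ _ (fun _ => rfl)] at h2
    exact h2

theorem isHomogeneous_dehom (P : MvPolynomial (Fin (N + 1)) k) {d : ℕ} (hP : P.IsHomogeneous d)
    (h0 : ∀ s ∈ P.support, s (Fin.last N) = 0) : (ProjChart.dehom N k (Fin.last N) P).IsHomogeneous d := by
  rw [P.as_sum, map_sum]
  refine IsHomogeneous.sum _ _ _ fun s hs => ?_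
  have hd : ∑ j, s j = d := by
    have := hP (mem_support_iff.1 hs)
    rw [← this, Finsupp.weight_apply, Finsupp.sum_fintype _ _ (by simp)]
    simp
  rw [monomial_eq, map_mul, ProjChart.dehom_C, Finsupp.prod_fintype _ _ (by simp), map_prod,
    Fin.prod_univ_castSucc, h0 s hs, pow_zero, map_one, mul_one, ← hd, Fin.sum_univ_castSucc, h0 s hs, add_zero]
  have h1 := IsHomogeneous.mul (isHomogeneous_C (Fin N) (coeff s P))
    (IsHomogeneous.prod (R := k) Finset.univ (fun i : Fin N => ProjChart.dehom N k (Fin.last N) (X (Fin.castSucc i) ^ s (Fin.castSucc i)))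
      (fun i => s (Fin.castSucc i)) fun i _ => by
      have h2 : ProjChart.dehom N k (Fin.last N) (X (Fin.castSucc i)) = X i := by
        have h3 := ProjChart.dehom_X N k (Fin.last N) i
        rwa [Fin.succAbove_last] at h3
      rw [map_pow, h2]
      have h4 := (isHomogeneous_X k i).pow (s (Fin.castSucc i))
      rwa [one_mul] at h4)
  rw [zero_add] at h1
  exact h1

theorem iSup_U : ⨆ j : Fin (N + 1), U ι j = ⊤ := by
  rw [eq_top_iff]
  intro x _
  obtain ⟨j, hj⟩ := Groth.Agent.PerfB.ProjSpaceCover.exists_mem_basicOpen_X N k (ι x)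
  exact Opens.mem_iSup.mpr ⟨j, hj⟩

section inj

variable [IsIntegral X]

theorem resO_injective {V W : X.Opens} (h : W ≤ V) (hW : (W : Set X).Nonempty) :
    Function.Injective (resO X h) := by
  have : Nonempty W := hW.to_subtype
  exact map_injective_of_isIntegral X (homOfLE h)

/-- A section of `O(m)` whose vertex chart coordinate lies in a high power of the vertex ideal is zero. -/
theorem eq_zero_of_mem [IsClosedImmersion ι] (hφ : HomKer (toX ι (Fin.last N))) (i : Fin N)
    (hne : ((U ι (Fin.last N) ⊓ U ι (Fin.castSucc i) : X.Opens) : Set X).Nonempty) (m : ℕ)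
    (s : Γ(CohB1.tensorPow (OX1 ι) m, ⊤)) (a : Γ(X, U ι (Fin.last N)))
    (ha : a • powSec (tX ι (Fin.last N)) m = res _ le_top s) (hM : a ∈ vert (toX ι (Fin.last N)) ^ (m + 1)) :
    s = 0 := by
  have hgen : ∀ j, IsGen (CohB1.tensorPow (OX1 ι) m) (U ι j) (powSec (tX ι j) m) :=
    fun j => isGen_powSec (isGen_tX ι j) m
  have hex : ∀ j, ∃ b : Γ(X, U ι j), b • powSec (tX ι j) m = res _ le_top s := by
    intro j
    have h1 := (hgen j (U ι j) le_rfl).2 (res _ le_top s)
    obtain ⟨b, hb⟩ := h1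
    refine ⟨b, ?_⟩
    rw [← hb, res_self]
  -- the coordinate is zero
  have ha0 : a = 0 := by
    obtain ⟨b, hb⟩ := hex (Fin.castSucc i)
    have h1 := congrArg (res _ (inf_le_left : U ι (Fin.last N) ⊓ U ι (Fin.castSucc i) ≤ _)) ha
    have h2 := congrArg (res _ (inf_le_right : U ι (Fin.last N) ⊓ U ι (Fin.castSucc i) ≤ _)) hb
    rw [res_smul, res_res, res_powSec] at h1 h2
    rw [tX_rel ι (Fin.castSucc i) (Fin.last N) inf_le_right inf_le_left, powSec_smul, smul_smul, ← h1] at h2
    have h3 := (isGen_powSec ((isGen_tX ι (Fin.last N)).mono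
      (inf_le_left : U ι (Fin.last N) ⊓ U ι (Fin.castSucc i) ≤ _)) m)
    have h4 := h3.injective' h2
    obtain ⟨d, G, rfl⟩ := exists_form ι (Fin.castSucc i) b
    have h5 := toX_rel ι G (Fin.last N) (Fin.castSucc i)
      (inf_le_left : U ι (Fin.last N) ⊓ U ι (Fin.castSucc i) ≤ _) inf_le_right
    have h6 : resO X (inf_le_left : U ι (Fin.last N) ⊓ U ι (Fin.castSucc i) ≤ _)
        (a * co ι (Fin.castSucc i) (Fin.last N) ^ d) =
        resO X (inf_le_left : U ι (Fin.last N) ⊓ U ι (Fin.castSucc i) ≤ _)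
        (toX ι (Fin.last N) (ProjChart.dehom N k (Fin.last N) G.1) * co ι (Fin.castSucc i) (Fin.last N) ^ m) := by
      have hpow : ∀ (y : Γ(X, U ι (Fin.last N))) (n : ℕ),
          resO X (inf_le_left : U ι (Fin.last N) ⊓ U ι (Fin.castSucc i) ≤ _) (y ^ n) =
          resO X (inf_le_left : U ι (Fin.last N) ⊓ U ι (Fin.castSucc i) ≤ _) y ^ n := fun y n => map_pow
            (X.presheaf.map (homOfLE (inf_le_left : U ι (Fin.last N) ⊓ U ι (Fin.castSucc i) ≤ _)).op).hom y n
      rw [resO_mul, resO_mul, hpow, hpow, h5, ← h4]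
      ring
    have h7 := resO_injective _ hne h6
    have hX : co ι (Fin.castSucc i) (Fin.last N) = toX ι (Fin.last N) (MvPolynomial.X i) := by
      rw [co]
      congr 1
      have h3 := ProjChart.dehom_X N k (Fin.last N) i
      rwa [Fin.succAbove_last] at h3
    have h8 : Fil (toX ι (Fin.last N)) (d + m * 1) (a * co ι (Fin.castSucc i) (Fin.last N) ^ d) := by
      rw [h7]
      refine Fil.mul ⟨_, ?_, rfl⟩ (Fil.pow ?_ m)
      · exact (totalDegree_dehom_le _ _).trans ((show G.1.IsHomogeneous d from G.2).totalDegree_le)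
      · rw [hX]; exact fil_X i
    have h9 : a * co ι (Fin.castSucc i) (Fin.last N) ^ d ∈ vert (toX ι (Fin.last N)) ^ (d + m * 1 + 1) := by
      rw [show d + m * 1 + 1 = (m + 1) + d by ring, pow_add]
      refine Ideal.mul_mem_mul hM (Ideal.pow_mem_pow ?_ d)
      rw [hX]; exact X_mem_vert i
    have h10 := eq_zero_of_fil hφ (toX_surjective ι _) h8 h9
    have : Nonempty (U ι (Fin.last N)) := ⟨⟨hne.some, hne.some_mem.1⟩⟩
    rcases mul_eq_zero.1 h10 with h11 | h11
    · exact h11
    · exfalso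
      have h12 := eq_zero_of_pow_eq_zero h11
      have h13 := tX_rel ι (Fin.castSucc i) (Fin.last N)
        (inf_le_right : U ι (Fin.last N) ⊓ U ι (Fin.castSucc i) ≤ _) inf_le_left
      rw [h12, resO_zero, zero_smul] at h13
      have h14 : IsGen (OX1 ι) _ (res (OX1 ι) (inf_le_right : U ι (Fin.last N) ⊓ U ι (Fin.castSucc i) ≤ _)
        (tX ι (Fin.castSucc i))) := (isGen_tX ι (Fin.castSucc i)).mono inf_le_right
      rw [h13] at h14
      have h15 : (1 : Γ(X, U ι (Fin.last N) ⊓ U ι (Fin.castSucc i))) = 0 :=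
        h14.injective' (by rw [smul_zero, smul_zero])
      have : Nonempty (U ι (Fin.last N) ⊓ U ι (Fin.castSucc i) : X.Opens) := hne.to_subtype
      exact one_ne_zero h15
  -- the section is zero
  refine eq_of_locally _ fun x _ => ?_
  have hx : x ∈ ⨆ j : Fin (N + 1), U ι j := by rw [iSup_U]; trivial
  obtain ⟨j, hj⟩ := Opens.mem_iSup.1 hx
  refine ⟨U ι j, le_top, hj, ?_⟩
  obtain ⟨b, hb⟩ := hex j
  rw [← hb, res_zero]
  have hne' : ((U ι (Fin.last N) ⊓ U ι j : X.Opens) : Set X).Nonempty :=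
    nonempty_preirreducible_inter (U ι (Fin.last N)).2 (U ι j).2 ⟨hne.some, hne.some_mem.1⟩ ⟨x, hj⟩
  have h1 := congrArg (res _ (inf_le_left : U ι (Fin.last N) ⊓ U ι j ≤ _)) ha
  have h2 := congrArg (res _ (inf_le_right : U ι (Fin.last N) ⊓ U ι j ≤ _)) hb
  rw [res_res] at h1 h2
  rw [← h1, ha0, zero_smul, res_zero, res_smul, res_powSec] at h2
  have h3 := (isGen_powSec ((isGen_tX ι j).mono (inf_le_right : U ι (Fin.last N) ⊓ U ι j ≤ _)) m)
  have h4 : resO X (inf_le_right : U ι (Fin.last N) ⊓ U ι j ≤ _) b = 0 := h3.injective' (by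
    rw [h2, zero_smul])
  have h5 : b = 0 := resO_injective _ hne' (by rw [h4, resO_zero])
  rw [h5, zero_smul]

end inj

end K221.ConeSec
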