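import Mathlib.FieldTheory.IsAlgClosed.AlgebraicClosure
import Mathlib.RingTheory.AlgebraicIndependent.TranscendenceBasis
import Mathlib.RingTheory.MvPolynomial.Basic

/-!
# Independent generic points
-/

set_option autoImplicit false

universe u

namespace K221.GenFam

/-- Independent elements and independent generic points of a domain. -/
theorem exists_data (k : Type u) [Field k] (A : Type u) [CommRing A] [IsDomain A] [Algebra k A]
    {ιz : Type u} (z : ιz → A) (hz : IsTranscendenceBasis k z) (κ ιr : Type u) :
    ∃ (K : Type u) (_ : Field K) (_ : Algebra k K) (_ : IsAlgClosed K) (φ : κ → K)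
      (y : ιr → (A →ₐ[k] K)),
      AlgebraicIndependent k (Sum.elim φ fun p : ιr × ιz => y p.1 (z p.2)) := by
  let P := MvPolynomial (κ ⊕ ιr × ιz) k
  let K := AlgebraicClosure (FractionRing P)
  have hinj : Function.Injective (algebraMap P K) := by
    rw [IsScalarTower.algebraMap_eq P (FractionRing P) K]
    exact (algebraMap (FractionRing P) K).injective.comp (IsFractionRing.injective P _)
  let ρ : P →ₐ[k] K := IsScalarTower.toAlgHom k P K
  let τ : κ ⊕ ιr × ιz → K := fun i => ρ (MvPolynomial.X i)
  have hτ : AlgebraicIndependent k τ :=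
    (MvPolynomial.algebraicIndependent_X (κ ⊕ ιr × ιz) k).map' (f := ρ) hinj
  let S := Algebra.adjoin k (Set.range z)
  have key : ∀ l : ιr, ∃ y : A →ₐ[k] K, ∀ c, y (z c) = τ (Sum.inr (l, c)) := by
    intro l
    let τl : ιz → K := fun c => τ (Sum.inr (l, c))
    have hτl : AlgebraicIndependent k τl :=
      hτ.comp (fun c => Sum.inr (l, c)) fun c c' h => (Prod.mk.inj (Sum.inr_injective h)).2
    let g : S →ₐ[k] K := (MvPolynomial.aeval τl).comp hz.1.aevalEquiv.symm.toAlgHom
    have hg : Function.Injective g := by
      change Function.Injective ((MvPolynomial.aeval τl) ∘ hz.1.aevalEquiv.symm)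
      exact Function.Injective.comp hτl hz.1.aevalEquiv.symm.injective
    let : Algebra S K := g.toRingHom.toAlgebra
    have h1 : Module.IsTorsionFree S K := by
      have : FaithfulSMul S K := (faithfulSMul_iff_algebraMap_injective S K).2 hg
      infer_instance
    have h2 : Module.IsTorsionFree S A := inferInstance
    have h3 : Algebra.IsAlgebraic S A := hz.isAlgebraic
    let y₀ : A →ₐ[S] K := IsAlgClosed.lift
    let y : A →ₐ[k] K := { y₀.toRingHom with
      commutes' := fun r => by
        have h4 : algebraMap k A r = algebraMap S A (algebraMap k S r) := rfl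
        change y₀ (algebraMap k A r) = _
        rw [h4, y₀.commutes]
        exact g.commutes r }
    refine ⟨y, fun c => ?_⟩
    have h5 : z c = algebraMap S A (hz.1.aevalEquiv (MvPolynomial.X c)) := by
      rw [hz.1.algebraMap_aevalEquiv, MvPolynomial.aeval_X]
    change y₀ (z c) = _
    rw [h5, y₀.commutes]
    change MvPolynomial.aeval τl (hz.1.aevalEquiv.symm (hz.1.aevalEquiv (MvPolynomial.X c))) = _
    rw [AlgEquiv.symm_apply_apply, MvPolynomial.aeval_X]
  choose y hy using key
  refine ⟨K, inferInstance, inferInstance, inferInstance, fun i => τ (Sum.inl i), y, ?_⟩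
  have : (Sum.elim (fun i => τ (Sum.inl i)) fun p : ιr × ιz => y p.1 (z p.2)) = τ := by
    funext i
    rcases i with i | ⟨l, c⟩
    · rfl
    · exact hy l c
  rw [this]
  exact hτ

end K221.GenFam
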