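import Groth.Agent.HilbD.K221.RedPts

/-!
# The generic point of an irreducible Hilbert scheme with an unramified point
-/

set_option autoImplicit false
set_option backward.isDefEq.respectTransparency false

universe u

open CategoryTheory CategoryTheory.Limits AlgebraicGeometry TensorProduct Cardinal

namespace K221.FldPt

open K221.AffPt K221.Acl Groth.Agent.Picfga.HilbPull Groth.Agent.Sga4h.GeoDim
  Groth.Agent.Picfga.HilbTriple

theorem formallyUnramified_of_isPushout {R B K₁ K₂ B₁ B₂ : Type u} [CommRing R] [CommRing B]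
    [Field K₁] [Field K₂] [CommRing B₁] [CommRing B₂] [Algebra R B] [Algebra K₁ B₁] [Algebra K₂ B₂]
    (φ₁ : R →+* K₁) (φ₂ : R →+* K₂) (q₁ : B →+* B₁) (q₂ : B →+* B₂)
    (hp₁ : IsPushout (CommRingCat.ofHom φ₁) (CommRingCat.ofHom (algebraMap R B))
      (CommRingCat.ofHom (algebraMap K₁ B₁)) (CommRingCat.ofHom q₁))
    (hp₂ : IsPushout (CommRingCat.ofHom φ₂) (CommRingCat.ofHom (algebraMap R B))
      (CommRingCat.ofHom (algebraMap K₂ B₂)) (CommRingCat.ofHom q₂))
    (h : RingHom.ker φ₂ ≤ RingHom.ker φ₁) [Module.Finite R B]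
    (h1 : Algebra.FormallyUnramified K₁ B₁) : Algebra.FormallyUnramified K₂ B₂ := by
  let : Algebra R K₁ := φ₁.toAlgebra
  let : Algebra B B₁ := q₁.toAlgebra
  let : Algebra R B₁ := ((algebraMap K₁ B₁).comp φ₁).toAlgebra
  have : IsScalarTower R K₁ B₁ := .of_algebraMap_eq' rfl
  have : IsScalarTower R B B₁ := .of_algebraMap_eq' (congrArg CommRingCat.Hom.hom hp₁.w)
  have : Algebra.IsPushout R K₁ B B₁ := CommRingCat.isPushout_iff_isPushout.1 hp₁
  let : Algebra R K₂ := φ₂.toAlgebra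
  let : Algebra B B₂ := q₂.toAlgebra
  let : Algebra R B₂ := ((algebraMap K₂ B₂).comp φ₂).toAlgebra
  have : IsScalarTower R K₂ B₂ := .of_algebraMap_eq' rfl
  have : IsScalarTower R B B₂ := .of_algebraMap_eq' (congrArg CommRingCat.Hom.hom hp₂.w)
  have : Algebra.IsPushout R K₂ B B₂ := CommRingCat.isPushout_iff_isPushout.1 hp₂
  exact K221.Unram.formallyUnramified_of_le (R := R) (B := B) (K₁ := K₁) (K₂ := K₂) h h1

lemma irreducibleSpace_of_isOpenEmbedding {X Y : Type*} [TopologicalSpace X] [TopologicalSpace Y]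
    {g : X → Y} (hg : Topology.IsOpenEmbedding g) [Nonempty X] [PreirreducibleSpace Y] :
    IrreducibleSpace X where
  toPreirreducibleSpace := .of_forall_nonempty_inter fun U V hU hV hUn hVn => by
    obtain ⟨y, ⟨u, hu, huy⟩, ⟨v, hv, hvy⟩⟩ := nonempty_preirreducible_inter (hg.isOpenMap _ hU)
      (hg.isOpenMap _ hV) (hUn.image g) (hVn.image g)
    have : u = v := hg.injective (huy.trans hvy.symm)
    exact ⟨u, hu, this ▸ hv⟩
  toNonempty := inferInstance

variable {k : Type u} [Field k] {A : Type u} [CommRing A] [Algebra k A]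
  {X : Scheme.{u}} {f : X ⟶ Spec (CommRingCat.of k)} {d : ℕ}
  {H : Over (Spec (CommRingCat.of k))} {Z : HilbD.Obj f d H} (j : Spec (CommRingCat.of A) ⟶ X)
  (hj : j ≫ f = Spec.map (CommRingCat.ofHom (algebraMap k A))) [IsOpenImmersion j] [IsSeparated f]
  (hZ : HilbD.IsUniversal f d H Z)

lemma finite_of_isFinLocFreeOfDeg {R : Type u} [CommRing R] [Algebra k R] (J : Ideal (R ⊗[k] A))
    (hJ : Mor2.IsFinLocFreeOfDeg d (zpi J)) : Module.Finite R (R ⊗[k] A ⧸ J) := by
  have h1 : IsFinite (zpi J) := hJ.1.1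
  rw [IsFinite.SpecMap_iff] at h1
  exact RingHom.finite_algebraMap.1 h1

/-- A field valued point through an open affine. -/
lemma exists_factor {R : Type u} [CommRing R] [Algebra k R] (y : T k R ⟶ H)
    [IsOpenImmersion y.left] {K : Type u} [Field K] [Algebra k K] (z : T k K ⟶ H)
    (h : z.left (o K) ∈ Set.range y.left) : ∃ ψ : R →ₐ[k] K, z = tm k R K ψ ≫ y := by
  have hr : Set.range z.left ⊆ Set.range y.left := by
    rintro _ ⟨p, rfl⟩
    rwa [eq_o p]
  obtain ⟨ψ₀, hψ₀⟩ := Spec.map_surjective (IsOpenImmersion.lift y.left z.left hr)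
  have h1 : Spec.map ψ₀ ≫ y.left = z.left := by rw [hψ₀, IsOpenImmersion.lift_fac]
  have h2 : CommRingCat.ofHom (algebraMap k R) ≫ ψ₀ = CommRingCat.ofHom (algebraMap k K) := by
    apply Spec.map_injective
    rw [Spec.map_comp]
    have h3 : y.left ≫ H.hom = Spec.map (CommRingCat.ofHom (algebraMap k R)) := Over.w y
    have h4 : z.left ≫ H.hom = Spec.map (CommRingCat.ofHom (algebraMap k K)) := Over.w z
    rw [← h3, reassoc_of% h1, h4]
  refine ⟨{ ψ₀.hom with commutes' := fun r => congrArg (fun q => q.hom r) h2 }, ?_⟩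
  apply Over.OverMorphism.ext
  rw [Over.comp_left]
  exact h1.symm

/-- The generic point of an irreducible Hilbert scheme having an unramified point. -/
theorem exists_generic [IrreducibleSpace H.left] {K₁ : Type u} [Field K₁] [Algebra k K₁]
    (J₁ : Ideal (K₁ ⊗[k] A)) (hJ₁ : Mor2.IsFinLocFreeOfDeg d (zpi J₁))
    (h : Algebra.FormallyUnramified K₁ (K₁ ⊗[k] A ⧸ J₁)) :
    ∃ (K : Type u) (_ : Field K) (_ : Algebra k K) (_ : IsAlgClosed K) (J₂ : Ideal (K ⊗[k] A))
      (hJ₂ : Mor2.IsFinLocFreeOfDeg d (zpi J₂)), im j hj hZ J₂ hJ₂ = genericPoint H.left ∧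
        Algebra.FormallyUnramified K (K ⊗[k] A ⧸ J₂) := by
  have hp₁ := pt_mem_gd j hj hZ J₁ hJ₁ (o K₁)
  obtain ⟨U, hU, hp₁U, hUgd⟩ := exists_isAffineOpen_mem_and_subset hp₁
  obtain ⟨φ, hφ⟩ := Spec.map_surjective (hU.fromSpec ≫ H.hom)
  let R : Type u := Γ(H.left, U)
  let : Algebra k R := φ.hom.toAlgebra
  let yR : T k R ⟶ H := Over.homMk hU.fromSpec hφ.symm
  have hrange : Set.range hU.fromSpec = U := hU.range_fromSpec
  obtain ⟨JR, hJR, hyR⟩ := exists_eq_pt j hj hZ yR fun z =>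
    (mem_gd_iff j yR _).1 (hUgd (by
      have : yR.left (pi f (pullObj f yR Z).1 z) ∈ Set.range hU.fromSpec := ⟨_, rfl⟩
      rwa [hrange] at this)) z rfl
  have hyo : IsOpenImmersion yR.left := inferInstanceAs (IsOpenImmersion hU.fromSpec)
  obtain ⟨ψ₁, hψ₁⟩ := exists_factor yR (pt j hj hZ J₁ hJ₁) (by
    change _ ∈ Set.range hU.fromSpec
    rw [hrange]; exact hp₁U)
  have hJ₁' : JR.map (bm A ψ₁) = J₁ := by
    have hJ₂ := isFinLocFreeOfDeg_map f j hj ψ₁ JR hJR
    apply ob_injective f j hj (hJ := hJ₂) (hJ' := hJ₁)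
    rw [← pullObj_pt j hj hZ, ← pullObj_pt j hj hZ, hψ₁, hyR, tm_pt]
  have hne : Nonempty (Spec (CommRingCat.of R)) := ⟨(tm k R K₁ ψ₁).left (o K₁)⟩
  have hirr : IrreducibleSpace (Spec (CommRingCat.of R)) :=
    irreducibleSpace_of_isOpenEmbedding hU.fromSpec.isOpenEmbedding
  let g : Spec (CommRingCat.of R) := genericPoint (Spec (CommRingCat.of R))
  have hg : hU.fromSpec g = genericPoint H.left := genericPoint_eq_of_isOpenImmersion hU.fromSpec
  let K := AlgebraicClosure g.asIdeal.ResidueField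
  let : Algebra k K := ((algebraMap R K).comp (algebraMap k R)).toAlgebra
  let ψ₂ : R →ₐ[k] K := { algebraMap R K with commutes' := fun r => rfl }
  have hker : RingHom.ker ψ₂.toRingHom = g.asIdeal := by
    have h1 : RingHom.ker (algebraMap R g.asIdeal.ResidueField) = g.asIdeal :=
      Ideal.ker_algebraMap_residueField _
    have h2 : (algebraMap R K) = (algebraMap g.asIdeal.ResidueField K).comp
        (algebraMap R g.asIdeal.ResidueField) := IsScalarTower.algebraMap_eq _ _ _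
    change RingHom.ker (algebraMap R K) = _
    rw [h2, ← RingHom.comap_ker, (RingHom.injective_iff_ker_eq_bot _).1
      (algebraMap g.asIdeal.ResidueField K).injective]
    exact h1
  have hspec : (tm k R K ψ₂).left (o K) = g := by
    apply PrimeSpectrum.ext
    have h3 : (o K).asIdeal = ⊥ := by
      have : (o K).asIdeal.IsPrime := (o K).2
      exact Ideal.eq_bot_of_prime _
    change Ideal.comap ψ₂.toRingHom (o K).asIdeal = _
    rw [h3]
    exact hker
  have hJ₂ := isFinLocFreeOfDeg_map f j hj ψ₂ JR hJR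
  refine ⟨K, inferInstance, inferInstance, inferInstance, JR.map (bm A ψ₂), hJ₂, ?_, ?_⟩
  · rw [im, ← tm_pt j hj hZ ψ₂ JR hJR hJ₂, ← hyR, Over.comp_left, Scheme.Hom.comp_apply, hspec]
    exact hg
  · subst hJ₁'
    have := finite_of_isFinLocFreeOfDeg JR hJR
    refine formallyUnramified_of_isPushout _ _ _ _ (isPushout_zpi ψ₁ JR) (isPushout_zpi ψ₂ JR) ?_ h
    rw [hker]
    have h4 : g ⤳ (tm k R K₁ ψ₁).left (o K₁) := genericPoint_specializes _
    have h5 := (PrimeSpectrum.le_iff_specializes _ _).2 h4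
    refine le_trans (show g.asIdeal ≤ _ from h5) ?_
    change Ideal.comap ψ₁.toRingHom (o K₁).asIdeal ≤ _
    have h3 : (o K₁).asIdeal = ⊥ := by
      have : (o K₁).asIdeal.IsPrime := (o K₁).2
      exact Ideal.eq_bot_of_prime _
    rw [h3]
    exact le_rfl

end K221.FldPt
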