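import Groth.Agent.HilbD.K221.FatPts
import Groth.Agent.HilbD.K221.GenPt
import Groth.Agent.HilbD.K221.GenFam
import Mathlib.RingTheory.Unramified.Pi

/-!
# A criterion for reducibility of Hilbert schemes of points
-/

set_option autoImplicit false
set_option backward.isDefEq.respectTransparency false

universe u

open CategoryTheory CategoryTheory.Limits AlgebraicGeometry TensorProduct Cardinal

namespace K221.FldPt

open K221.AffPt K221.Acl Groth.Agent.Sga4h.GeoDim

/-- The quotient by an intersection of comaximal ideals. -/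
theorem formallyUnramified_quot_iInf {K R ι : Type u} [Field K] [CommRing R] [Algebra K R]
    [Fintype ι] (I : ι → Ideal R) (hc : Pairwise fun i j => IsCoprime (I i) (I j))
    (h : ∀ i, Algebra.FormallyUnramified K (R ⧸ I i)) :
    Algebra.FormallyUnramified K (R ⧸ ⨅ i, I i) := by
  let Φ : R →ₐ[K] (∀ i, R ⧸ I i) := AlgHom.pi fun i => Ideal.Quotient.mkₐ K (I i)
  have hker : RingHom.ker Φ = ⨅ i, I i := by
    ext x
    rw [RingHom.mem_ker, Submodule.mem_iInf]
    constructor
    · intro h i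
      exact Ideal.Quotient.eq_zero_iff_mem.1 (congrFun h i)
    · intro h
      funext i
      exact Ideal.Quotient.eq_zero_iff_mem.2 (h i)
  have hsurj : Function.Surjective Φ := by
    intro y
    obtain ⟨z, hz⟩ := (Ideal.quotientInfRingEquivPiQuotient I hc).surjective y
    obtain ⟨x, rfl⟩ := Ideal.Quotient.mk_surjective z
    refine ⟨x, ?_⟩
    rw [← hz]
    rfl
  let e : (R ⧸ ⨅ i, I i) ≃ₐ[K] (∀ i, R ⧸ I i) :=
    (Ideal.quotientEquivAlgOfEq K hker.symm).trans (Ideal.quotientKerAlgEquivOfSurjective hsurj)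
  have h1 : Algebra.FormallyUnramified K (∀ i, R ⧸ I i) :=
    (Algebra.FormallyUnramified.pi_iff _).2 h
  exact Algebra.FormallyUnramified.of_equiv e.symm

variable {k : Type u} [Field k] {A : Type u} [CommRing A] [Algebra k A]

/-- There is an unramified set of `s` points. -/
theorem exists_reduced [IsDomain A] {ιz : Type u} (z : ιz → A) (hz : IsTranscendenceBasis k z)
    (hne : Nonempty ιz) (s : ℕ) :
    ∃ (K : Type u) (_ : Field K) (_ : Algebra k K) (J : Ideal (K ⊗[k] A)),
      Mor2.IsFinLocFreeOfDeg s (zpi J) ∧ Algebra.FormallyUnramified K (K ⊗[k] A ⧸ J) := by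
  obtain ⟨K, _, _, _, φ, y, hτ⟩ := K221.GenFam.exists_data k A z hz PEmpty.{u+1} (ULift.{u} (Fin s))
  have hy : Function.Injective y := by
    intro l l' h
    obtain ⟨c⟩ := hne
    have h1 := hτ.injective (a₁ := Sum.inr (l, c)) (a₂ := Sum.inr (l', c)) (by
      simp only [Sum.elim_inr, h])
    exact (Prod.mk.inj (Sum.inr_injective h1)).1
  have hc : Pairwise fun i j => IsCoprime (RingHom.ker (ev (y i))) (RingHom.ker (ev (y j))) :=
    fun i j hij => isCoprime_ker_ev fun h => hij (hy h)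
  obtain ⟨h1, h2⟩ := finrank_quot_iInf (K := K) (fun l => RingHom.ker (ev (y l))) hc
    fun l => (finrank_ker_ev (y l)).1
  refine ⟨K, inferInstance, inferInstance, ⨅ l, RingHom.ker (ev (y l)),
    (isFinLocFreeOfDeg_zpi_iff _).2 ⟨h1, ?_⟩, formallyUnramified_quot_iInf _ hc fun l => ?_⟩
  · rw [h2]
    simp only [(finrank_ker_ev (y _)).2, Finset.sum_const, Finset.card_univ, smul_eq_mul, mul_one,
      Fintype.card_ulift, Fintype.card_fin]
  · let e : (K ⊗[k] A ⧸ RingHom.ker (ev (y l))) ≃ₐ[K] K :=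
      Ideal.quotientKerAlgEquivOfSurjective (ev_surjective (y l))
    exact Algebra.FormallyUnramified.of_equiv e.symm

section Crit

variable {M : Ideal A} {t : ℕ} {ιw ιe : Type u} [DecidableEq ιw] [DecidableEq ιe] [Fintype ιw]
  [Fintype ιe] {w : ιw → A} {e : ιe → A} {lw : ιw → A →ₗ[k] k} {le : ιe → A →ₗ[k] k}
  (D : FatData M t w e lw le)
  {X : Scheme.{u}} {f : X ⟶ Spec (CommRingCat.of k)} {s : ℕ}
  {H : Over (Spec (CommRingCat.of k))} {Z : HilbD.Obj f s H} (j : Spec (CommRingCat.of A) ⟶ X)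
  (hj : j ≫ f = Spec.map (CommRingCat.ofHom (algebraMap k A))) [IsOpenImmersion j] [IsSeparated f]
  [QuasiCompact f] [LocallyOfFinitePresentation f] (hZ : HilbD.IsUniversal f s H Z)

include D hj hZ in
/-- **Reducibility criterion.** -/
theorem not_irreducibleSpace_of_fatData [IsDomain A] (n r : ℕ) (hn : 1 ≤ n)
    (htr : Algebra.trdeg k A = n)
    (hs : s + Fintype.card ιw = Module.finrank k (A ⧸ M ^ (t + 1)) + r)
    (hbig : s * n < Fintype.card ιe * Fintype.card ιw + r * n) : ¬ IrreducibleSpace H.left := by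
  intro hirr
  obtain ⟨ιz, z, hz⟩ := exists_isTranscendenceBasis' k A
  have hcz : #ιz = n := hz.cardinalMk_eq_trdeg.trans htr
  have hne : Nonempty ιz := by
    rw [← Cardinal.mk_ne_zero_iff, hcz]
    exact_mod_cast (by omega : n ≠ 0)
  have hlft : LocallyOfFiniteType H.hom := K994.Hlft.locallyOfFiniteType_hom k f hZ
  -- the generic point
  obtain ⟨K₁, _, _, J₁, hJ₁, hu₁⟩ := exists_reduced z hz hne s
  obtain ⟨K₂, _, _, _, J₂, hJ₂, him, hu₂⟩ := exists_generic j hj hZ J₁ hJ₁ hu₁
  have hfin₂ : Module.Finite K₂ (K₂ ⊗[k] A ⧸ J₂) := ((isFinLocFreeOfDeg_zpi_iff _).1 hJ₂).1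
  have hred : IsReduced (K₂ ⊗[k] A ⧸ J₂) :=
    Algebra.FormallyUnramified.isReduced_of_field K₂ (K₂ ⊗[k] A ⧸ J₂)
  have hup := trdegAt_im_le_of_isReduced j hj hZ J₂ hJ₂ hred n fun y => by
    obtain ⟨s, h1, -, h3⟩ := exists_finset y n htr.le
    exact ⟨s, h1, h3⟩
  rw [him] at hup
  -- the big family
  obtain ⟨K, _, _, _, φ, y, hτ⟩ := K221.GenFam.exists_data k A z hz (ιe × ιw) (ULift.{u} (Fin r))
  have hy : Function.Injective y := by
    intro l l' h
    obtain ⟨c⟩ := hne
    have h1 := hτ.injective (a₁ := Sum.inr (l, c)) (a₂ := Sum.inr (l', c)) (by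
      simp only [Sum.elim_inr, h])
    exact (Prod.mk.inj (Sum.inr_injective h1)).1
  have hyM : ∀ l, ∃ a ∈ M, y l a ≠ 0 := by
    intro l
    obtain ⟨c⟩ := hne
    obtain ⟨b, hb⟩ := D.hM (z c)
    refine ⟨_, hb, fun h0 => ?_⟩
    rw [map_sub, AlgHom.commutes, sub_eq_zero] at h0
    have h1 := hτ.transcendental (Sum.inr (l, c))
    rw [Sum.elim_inr] at h1
    apply h1
    change IsAlgebraic k (y l (z c))
    rw [h0]
    exact isAlgebraic_algebraMap b
  let φ' : ιe → ιw → K := fun i j => φ (i, j)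
  have hτ' : AlgebraicIndependent k (Sum.elim (fun p : ιe × ιw => φ' p.1 p.2)
      (fun p : ULift.{u} (Fin r) × ιz => y p.1 (z p.2))) := hτ
  obtain ⟨h1, h2⟩ := finrank_comb D φ' y hy hyM
  have hJ : Mor2.IsFinLocFreeOfDeg s (zpi (⨅ i, comb M t w e φ' y i)) := by
    refine (isFinLocFreeOfDeg_zpi_iff _).2 ⟨h1, ?_⟩
    have h3 : Fintype.card (ULift.{u} (Fin r)) = r := by simp
    rw [h3] at h2
    omega
  have hlow := card_le_trdegAt_comb D φ' y j hj hZ hJ hyM z hτ'
  have hsp := trdegAt_le_of_specializes H.hom (genericPoint_specializes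
    (im j hj hZ (⨅ i, comb M t w e φ' y i) hJ))
  have hfinal := hlow.trans (hsp.trans hup)
  rw [Cardinal.mk_sum, Cardinal.mk_prod, Cardinal.mk_prod, hcz] at hfinal
  simp only [Cardinal.lift_id, Cardinal.mk_fintype, Fintype.card_ulift, Fintype.card_fin] at hfinal
  have : Fintype.card ιe * Fintype.card ιw + r * n ≤ s * n := by exact_mod_cast hfinal
  omega

end Crit

end K221.FldPt
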