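import Groth.Agent.HilbD.K221.FldPt
import Groth.Agent.HilbD.K221.Acl

/-!
# Ideals defined over a subfield
-/

set_option autoImplicit false
set_option backward.isDefEq.respectTransparency false

universe u

open CategoryTheory CategoryTheory.Limits AlgebraicGeometry TensorProduct

namespace K221.FldPt

open K221.AffPt

variable {k : Type u} [Field k] {K : Type u} [Field K] [Algebra k K] {A : Type u} [CommRing A]
  [Algebra k A]

lemma bm_tmul {R R' : Type u} [CommRing R] [Algebra k R] [CommRing R'] [Algebra k R']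
    (φ : R →ₐ[k] R') (r : R) (a : A) : bm A φ (r ⊗ₜ a) = φ r ⊗ₜ a := by
  simp [bm]

section Along

variable {L : Type u} [Field L] [Algebra k L] {φ : L →ₐ[k] K} {J J' : Ideal (K ⊗[k] A)}

/-- `J` is defined over the field `L`. -/
def DefAlong {L : Type u} [Field L] [Algebra k L] (φ : L →ₐ[k] K) (J : Ideal (K ⊗[k] A)) : Prop :=
  ∃ J₀ : Ideal (L ⊗[k] A), J₀.map (bm A φ) = J

lemma defAlong_span {S : Set (K ⊗[k] A)} (h : ∀ s ∈ S, s ∈ Set.range (bm A φ)) :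
    DefAlong φ (Ideal.span S) := by
  refine ⟨Ideal.span (bm A φ ⁻¹' S), ?_⟩
  rw [Ideal.map_span, Set.image_preimage_eq_of_subset h]

lemma DefAlong.sup (hJ : DefAlong φ J) (hJ' : DefAlong φ J') : DefAlong φ (J ⊔ J') := by
  obtain ⟨J₀, rfl⟩ := hJ
  obtain ⟨J₁, rfl⟩ := hJ'
  exact ⟨J₀ ⊔ J₁, Ideal.map_sup _ _ _⟩

lemma DefAlong.mul (hJ : DefAlong φ J) (hJ' : DefAlong φ J') : DefAlong φ (J * J') := by
  obtain ⟨J₀, rfl⟩ := hJ
  obtain ⟨J₁, rfl⟩ := hJ'
  exact ⟨J₀ * J₁, Ideal.map_mul _ _ _⟩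

lemma DefAlong.pow (hJ : DefAlong φ J) (n : ℕ) : DefAlong φ (J ^ n) := by
  obtain ⟨J₀, rfl⟩ := hJ
  exact ⟨J₀ ^ n, Ideal.map_pow _ _ _⟩

lemma defAlong_top : DefAlong φ (⊤ : Ideal (K ⊗[k] A)) := ⟨⊤, Ideal.map_top _⟩

lemma defAlong_bot : DefAlong φ (⊥ : Ideal (K ⊗[k] A)) := ⟨⊥, Ideal.map_bot⟩

lemma DefAlong.prod {ι : Type*} (s : Finset ι) (I : ι → Ideal (K ⊗[k] A))
    (h : ∀ i ∈ s, DefAlong φ (I i)) : DefAlong φ (∏ i ∈ s, I i) := by
  classical
  induction s using Finset.induction_on with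
  | empty =>
    rw [Finset.prod_empty, Ideal.one_eq_top]
    exact defAlong_top
  | insert a s ha ih =>
    rw [Finset.prod_insert ha]
    exact (h a (Finset.mem_insert_self _ _)).mul
      (ih fun i hi => h i (Finset.mem_insert_of_mem hi))

lemma DefAlong.iInf {ι : Type*} [Fintype ι] (I : ι → Ideal (K ⊗[k] A))
    (h : ∀ i, DefAlong φ (I i)) (hc : Pairwise fun i j => IsCoprime (I i) (I j)) :
    DefAlong φ (⨅ i, I i) := by
  have h1 := Ideal.prod_eq_iInf_of_pairwise_isCoprime (s := Finset.univ) (J := I)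
    (fun i _ j _ hij => hc hij)
  simp only [Finset.mem_univ, iInf_pos] at h1
  rw [← h1]
  exact DefAlong.prod _ _ fun i _ => h i

lemma defAlong_incR (I : Ideal A) : DefAlong φ (I.map (incR K)) := by
  refine ⟨I.map (incR L), ?_⟩
  rw [Ideal.map_map, bm_incR]

end Along

/-- The `K`-point of `K ⊗ A` defined by `y : A → K`. -/
noncomputable def ev (y : A →ₐ[k] K) : K ⊗[k] A →ₐ[K] K :=
  Algebra.TensorProduct.lift (Algebra.ofId K K) y fun _ _ => .all _ _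

@[simp]
lemma ev_tmul (y : A →ₐ[k] K) (c : K) (a : A) : ev y (c ⊗ₜ a) = c * y a := by
  simp [ev, Algebra.ofId_apply]

lemma ev_surjective (y : A →ₐ[k] K) : Function.Surjective (ev y) := fun c =>
  ⟨c ⊗ₜ 1, by simp⟩

lemma sub_mem_span (y : A →ₐ[k] K) (x : K ⊗[k] A) :
    x - (ev y x) ⊗ₜ 1 ∈ Ideal.span (Set.range fun a : A => (1 : K) ⊗ₜ[k] a - (y a) ⊗ₜ[k] (1 : A)) := by
  induction x with
  | zero => simp
  | tmul c a =>
    have h : c ⊗ₜ[k] a - (ev y (c ⊗ₜ[k] a)) ⊗ₜ[k] (1 : A) =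
        (c ⊗ₜ[k] (1 : A)) * ((1 : K) ⊗ₜ[k] a - (y a) ⊗ₜ[k] (1 : A)) := by
      rw [mul_sub, Algebra.TensorProduct.tmul_mul_tmul, Algebra.TensorProduct.tmul_mul_tmul,
        ev_tmul, one_mul, mul_one, mul_one]
    rw [h]
    exact Ideal.mul_mem_left _ _ (Ideal.subset_span ⟨a, rfl⟩)
  | add x z hx hz =>
    have h : x + z - (ev y (x + z)) ⊗ₜ[k] (1 : A) =
        (x - (ev y x) ⊗ₜ[k] (1 : A)) + (z - (ev y z) ⊗ₜ[k] (1 : A)) := by
      rw [map_add, TensorProduct.add_tmul]; ring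
    rw [h]
    exact Ideal.add_mem _ hx hz

lemma ker_ev (y : A →ₐ[k] K) : RingHom.ker (ev y) =
    Ideal.span (Set.range fun a : A => (1 : K) ⊗ₜ[k] a - (y a) ⊗ₜ[k] (1 : A)) := by
  apply le_antisymm
  · intro x hx
    have h := sub_mem_span y x
    rw [RingHom.mem_ker] at hx
    rwa [hx, TensorProduct.zero_tmul, sub_zero] at h
  · rw [Ideal.span_le]
    rintro _ ⟨a, rfl⟩
    simp [RingHom.mem_ker]

lemma defAlong_ker_ev {L : Type u} [Field L] [Algebra k L] {φ : L →ₐ[k] K} (y : A →ₐ[k] K)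
    (h : ∀ a, y a ∈ Set.range φ) : DefAlong φ (RingHom.ker (ev y)) := by
  rw [ker_ev]
  refine defAlong_span ?_
  rintro _ ⟨a, rfl⟩
  obtain ⟨c, hc⟩ := h a
  refine ⟨(1 : L) ⊗ₜ a - c ⊗ₜ 1, ?_⟩
  rw [map_sub, bm_tmul, bm_tmul, hc, map_one]

instance isMaximal_ker_ev (y : A →ₐ[k] K) : (RingHom.ker (ev y)).IsMaximal :=
  RingHom.ker_isMaximal_of_surjective _ (ev_surjective y)

lemma ker_ev_injective {y z : A →ₐ[k] K} (h : RingHom.ker (ev y) = RingHom.ker (ev z)) : y = z := by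
  ext a
  have h1 : (1 : K) ⊗ₜ[k] a - (y a) ⊗ₜ[k] (1 : A) ∈ RingHom.ker (ev y) := by
    simp [RingHom.mem_ker]
  rw [h, RingHom.mem_ker] at h1
  simp only [map_sub, ev_tmul, one_mul, map_one, mul_one, sub_eq_zero] at h1
  exact h1.symm

/-- A point of the support is algebraic over every field of definition. -/
theorem isIntegralElem_of_defAlong {L : Type u} [Field L] [Algebra k L] {φ : L →ₐ[k] K}
    {J : Ideal (K ⊗[k] A)} (hJ : DefAlong φ J) (hfin : Module.Finite K (K ⊗[k] A ⧸ J))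
    (y : A →ₐ[k] K) (hy : J ≤ RingHom.ker (ev y)) (a : A) : φ.toRingHom.IsIntegralElem (y a) := by
  obtain ⟨J₀, rfl⟩ := hJ
  have h1 : Module.Finite L (L ⊗[k] A ⧸ J₀) :=
    (finite_finrank_of_isPushout _ _ (isPushout_zpi φ J₀)).1.2 hfin
  let g : (L ⊗[k] A ⧸ J₀) →+* K := Ideal.Quotient.lift J₀ ((ev y).toRingHom.comp (bm A φ))
    fun x hx => hy (Ideal.mem_map_of_mem _ hx)
  have h2 : IsIntegral L (Ideal.Quotient.mk J₀ ((1 : L) ⊗ₜ[k] a)) :=
    Algebra.IsIntegral.isIntegral _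
  have h3 : g.comp (algebraMap L (L ⊗[k] A ⧸ J₀)) = φ.toRingHom := by
    ext c
    change ev y (bm A φ (c ⊗ₜ 1)) = _
    rw [bm_tmul, ev_tmul, map_one, mul_one]
    rfl
  have h4 : g (Ideal.Quotient.mk J₀ ((1 : L) ⊗ₜ[k] a)) = y a := by
    change ev y (bm A φ (1 ⊗ₜ a)) = _
    rw [bm_tmul, ev_tmul, map_one, one_mul]
  obtain ⟨p, hp, hp'⟩ := h2
  refine ⟨p, hp, ?_⟩
  rw [← h3, ← h4, ← Polynomial.hom_eval₂, hp', map_zero]

section Over

variable {F F' : IntermediateField k K} {J : Ideal (K ⊗[k] A)}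

lemma defOver_iff : DefOver F J ↔ DefAlong F.val J := Iff.rfl

/-- A point of the support is algebraic over every field of definition. -/
theorem isAlgebraic_of_defOver (hJ : DefOver F J) (hfin : Module.Finite K (K ⊗[k] A ⧸ J))
    (y : A →ₐ[k] K) (hy : J ≤ RingHom.ker (ev y)) (a : A) : IsAlgebraic F (y a) := by
  have h : IsIntegral F (y a) := isIntegralElem_of_defAlong (φ := F.val) hJ hfin y hy a
  exact h.isAlgebraic

lemma DefOver.mono (h : F ≤ F') (hJ : DefOver F J) : DefOver F' J := by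
  obtain ⟨J₀, rfl⟩ := hJ
  refine ⟨J₀.map (bm A (IntermediateField.inclusion h)), ?_⟩
  rw [Ideal.map_map, bm_comp]
  rfl

end Over

end K221.FldPt
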