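import Groth.Agent.HilbD.K221.DefOver

/-!
# Fat points between two powers of a maximal ideal

`M` the maximal ideal of a rational point of `A`, `w_j, e_i ∈ M ^ t` a basis modulo `M ^ (t + 1)`. The
ideals `M ^ (t + 1) + (w_j + ∑ φ_ij e_i)` of `K ⊗ A` have colength `dim A / M ^ (t + 1) - #w`, and the
coefficients `φ_ij` belong to every field of definition.
-/

set_option autoImplicit false
set_option backward.isDefEq.respectTransparency false

universe u

open TensorProduct

namespace K221.FldPt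

open K221.AffPt

theorem finrank_quot_aux {K R ι : Type*} [Field K] [CommRing R] [Algebra K R] [Fintype ι]
    [DecidableEq ι] (N I : Ideal R) (hle : N ≤ I) (l : ι → R →ₗ[K] K) (g : ι → R)
    (hg : ∀ j, g j ∈ I) (hN : ∀ j, ∀ x ∈ N, l j x = 0)
    (hlg : ∀ j' j, l j' (g j) = if j' = j then 1 else 0)
    (hI : ∀ x ∈ I, (∀ j, l j x = 0) → x ∈ N) [Module.Finite K (R ⧸ N)] :
    Module.Finite K (R ⧸ I) ∧
      Module.finrank K (R ⧸ I) + Fintype.card ι = Module.finrank K (R ⧸ N) := by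
  let q : (R ⧸ N) →ₐ[K] (R ⧸ I) := Ideal.Quotient.factorₐ K hle
  have hq : Function.Surjective q := Ideal.Quotient.factor_surjective hle
  have hfin : Module.Finite K (R ⧸ I) := Module.Finite.of_surjective q.toLinearMap hq
  refine ⟨hfin, ?_⟩
  let Λ : R →ₗ[K] (R ⧸ I) × (ι → K) :=
    (Ideal.Quotient.mkₐ K I).toLinearMap.prod (LinearMap.pi l)
  have hker : LinearMap.ker Λ = N.restrictScalars K := by
    ext x
    rw [LinearMap.mem_ker]
    constructor
    · intro hx
      have hx1 : Ideal.Quotient.mk I x = 0 := congrArg Prod.fst hx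
      have hx2 : ∀ j, l j x = 0 := fun j => congrFun (congrArg Prod.snd hx) j
      exact hI x (Ideal.Quotient.eq_zero_iff_mem.1 hx1) hx2
    · intro hx
      have hx' : x ∈ N := hx
      refine Prod.ext ?_ (funext fun j => ?_)
      · exact Ideal.Quotient.eq_zero_iff_mem.2 (hle hx')
      · exact hN j x hx'
  have hsurj : Function.Surjective Λ := by
    rintro ⟨y, a⟩
    obtain ⟨x, rfl⟩ := Ideal.Quotient.mk_surjective y
    refine ⟨x + ∑ j, (a j - l j x) • g j, Prod.ext ?_ (funext fun j' => ?_)⟩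
    · change Ideal.Quotient.mk _ _ = _
      rw [map_add, add_eq_left, Ideal.Quotient.eq_zero_iff_mem]
      refine Ideal.sum_mem _ fun j _ => ?_
      rw [Algebra.smul_def]
      exact Ideal.mul_mem_left _ _ (hg j)
    · change l j' _ = a j'
      rw [map_add, map_sum]
      simp only [map_smul, hlg, smul_eq_mul, mul_ite, mul_one, mul_zero,
        Finset.sum_ite_eq, Finset.mem_univ, if_true]
      ring
  let e₁ : (R ⧸ N) ≃ₗ[K] (R ⧸ LinearMap.ker Λ) :=
    Submodule.Quotient.restrictScalarsEquiv K N ≪≫ₗ Submodule.quotEquivOfEq _ _ hker.symm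
  have e₂ := e₁.trans (LinearMap.quotKerEquivOfSurjective Λ hsurj)
  rw [e₂.finrank_eq, Module.finrank_prod, Module.finrank_fintype_fun_eq_card]

variable {k : Type u} [Field k] {A : Type u} [CommRing A] [Algebra k A]

section Fun

variable (K : Type u) [Field K] [Algebra k K]

/-- The `K`-linear extension of a functional. -/
noncomputable def ext (l : A →ₗ[k] k) : K ⊗[k] A →ₗ[K] K :=
  (TensorProduct.AlgebraTensorModule.rid k K K).toLinearMap ∘ₗ l.baseChange K

@[simp]
lemma ext_tmul (l : A →ₗ[k] k) (c : K) (a : A) : ext K l (c ⊗ₜ a) = l a • c := by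
  simp [ext]

lemma mem_map_incR_iff (I : Ideal A) (x : K ⊗[k] A) : x ∈ I.map (incR K) ↔
    x ∈ LinearMap.range ((I.restrictScalars k).subtype.lTensor K) := by
  have h := Ideal.map_includeRight_eq (R := k) (A := K) I
  rw [← h]
  rfl

lemma ext_eq_zero (l : A →ₗ[k] k) (I : Ideal A) (h : ∀ a ∈ I, l a = 0) {x : K ⊗[k] A}
    (hx : x ∈ I.map (incR K)) : ext K l x = 0 := by
  rw [mem_map_incR_iff] at hx
  obtain ⟨z, rfl⟩ := hx
  induction z with
  | zero => simp
  | tmul c a =>
    rw [LinearMap.lTensor_tmul, ext_tmul]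
    have : l ((I.restrictScalars k).subtype a) = 0 := h _ a.2
    rw [this, zero_smul]
  | add y z hy hz => rw [map_add, map_add, hy, hz, add_zero]

/-- Base change of the quotient by an ideal of `A`. -/
theorem finite_finrank_map_incR (I : Ideal A) :
    (Module.Finite k (A ⧸ I) ↔ Module.Finite K (K ⊗[k] A ⧸ I.map (incR K))) ∧
      Module.finrank k (A ⧸ I) = Module.finrank K (K ⊗[k] A ⧸ I.map (incR K)) :=
  finite_finrank_of_isPushout (algebraMap k K) _ ((CommRingCat.isPushout_tensorProduct k K A).paste_vert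
    (isPushout_quot (incR K) I (I.map (incR K)) Ideal.le_comap_map le_rfl))

lemma exists_sub_mem {M : Ideal A} (hM : ∀ a : A, ∃ c : k, a - algebraMap k A c ∈ M)
    (x : K ⊗[k] A) : ∃ c : K, x - c ⊗ₜ 1 ∈ M.map (incR K) := by
  induction x with
  | zero => exact ⟨0, by simp⟩
  | tmul c a =>
    obtain ⟨b, hb⟩ := hM a
    refine ⟨b • c, ?_⟩
    have h : c ⊗ₜ[k] a - (b • c) ⊗ₜ[k] (1 : A) = (c ⊗ₜ[k] (1 : A)) * (1 ⊗ₜ[k] (a - algebraMap k A b)) := by
      rw [Algebra.TensorProduct.tmul_mul_tmul, mul_one, one_mul, TensorProduct.tmul_sub,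
        TensorProduct.smul_tmul, Algebra.algebraMap_eq_smul_one]
    rw [h]
    exact Ideal.mul_mem_left _ _ (Ideal.mem_map_of_mem (incR K) hb)
  | add x y hx hy =>
    obtain ⟨c, hc⟩ := hx
    obtain ⟨c', hc'⟩ := hy
    refine ⟨c + c', ?_⟩
    have h : x + y - (c + c') ⊗ₜ[k] (1 : A) = (x - c ⊗ₜ 1) + (y - c' ⊗ₜ 1) := by
      rw [TensorProduct.add_tmul]; ring
    rw [h]
    exact Ideal.add_mem _ hc hc'

lemma ext_bm {L : Type u} [Field L] [Algebra k L] (ψ : L →ₐ[k] K) (l : A →ₗ[k] k)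
    (x : L ⊗[k] A) : ext K l (bm A ψ x) = ψ (ext L l x) := by
  induction x with
  | zero => simp
  | tmul c a => rw [bm_tmul, ext_tmul, ext_tmul, map_smul]
  | add x y hx hy => rw [map_add, map_add, map_add, map_add, hx, hy]

lemma mem_span_of_mem_map {L : Type u} [Field L] [Algebra k L] (ψ : L →ₐ[k] K)
    (J₀ : Ideal (L ⊗[k] A)) {x : K ⊗[k] A} (hx : x ∈ J₀.map (bm A ψ)) :
    x ∈ Submodule.span K (bm A ψ '' (J₀ : Set (L ⊗[k] A))) := by
  have hmul : ∀ (z y : K ⊗[k] A), y ∈ Submodule.span K (bm A ψ '' (J₀ : Set (L ⊗[k] A))) →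
      z * y ∈ Submodule.span K (bm A ψ '' (J₀ : Set (L ⊗[k] A))) := by
    intro z y hy
    induction z with
    | zero => rw [zero_mul]; exact Submodule.zero_mem _
    | add z z' hz hz' => rw [add_mul]; exact Submodule.add_mem _ hz hz'
    | tmul c a =>
      induction hy using Submodule.span_induction with
      | zero => rw [mul_zero]; exact Submodule.zero_mem _
      | add y y' _ _ hy hy' => rw [mul_add]; exact Submodule.add_mem _ hy hy'
      | smul b y _ hy => rw [mul_smul_comm]; exact Submodule.smul_mem _ _ hy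
      | mem y hy =>
        obtain ⟨y₁, hy₁, rfl⟩ := hy
        have h1 : (c ⊗ₜ[k] a) * bm A ψ y₁ = c • bm A ψ ((1 ⊗ₜ a) * y₁) := by
          rw [map_mul, bm_tmul, map_one, ← smul_mul_assoc, TensorProduct.smul_tmul', smul_eq_mul,
            mul_one]
        rw [h1]
        exact Submodule.smul_mem _ _ (Submodule.subset_span
          ⟨_, Ideal.mul_mem_left _ _ hy₁, rfl⟩)
  refine Submodule.span_induction (p := fun x _ => x ∈ _) ?_ ?_ ?_ ?_ hx
  · rintro _ ⟨y, hy, rfl⟩
    exact Submodule.subset_span ⟨y, hy, rfl⟩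
  · exact Submodule.zero_mem _
  · intro x y _ _ hx hy
    exact Submodule.add_mem _ hx hy
  · intro z y _ hy
    exact hmul z y hy

end Fun

/-- A basis of `M ^ t` modulo `M ^ (t + 1)` (linearly independent part of the data). -/
structure FatData (M : Ideal A) (t : ℕ) {ιw ιe : Type u} [DecidableEq ιw] [DecidableEq ιe]
    (w : ιw → A) (e : ιe → A) (lw : ιw → A →ₗ[k] k) (le : ιe → A →ₗ[k] k) : Prop where
  hM : ∀ a : A, ∃ c : k, a - algebraMap k A c ∈ M
  hw : ∀ j, w j ∈ M ^ t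
  he : ∀ i, e i ∈ M ^ t
  lwM : ∀ j, ∀ a ∈ M ^ (t + 1), lw j a = 0
  leM : ∀ i, ∀ a ∈ M ^ (t + 1), le i a = 0
  lww : ∀ j j', lw j (w j') = if j = j' then 1 else 0
  lwe : ∀ j i, lw j (e i) = 0
  lew : ∀ i j, le i (w j) = 0
  lee : ∀ i i', le i (e i') = if i = i' then 1 else 0
  fin : Module.Finite k (A ⧸ M ^ (t + 1))

section Fat

variable {M : Ideal A} {t : ℕ} {ιw ιe : Type u} [DecidableEq ιw] [DecidableEq ιe] [Fintype ιw]
  [Fintype ιe] {w : ιw → A} {e : ιe → A} {lw : ιw → A →ₗ[k] k} {le : ιe → A →ₗ[k] k}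
  (D : FatData M t w e lw le) {K : Type u} [Field K] [Algebra k K] (φ : ιe → ιw → K)

/-- The generators. -/
noncomputable def gen (w : ιw → A) (e : ιe → A) (φ : ιe → ιw → K) (j : ιw) : K ⊗[k] A :=
  1 ⊗ₜ w j + ∑ i, φ i j ⊗ₜ e i

/-- The fat point. -/
noncomputable def fat (M : Ideal A) (t : ℕ) (w : ιw → A) (e : ιe → A) (φ : ιe → ιw → K) :
    Ideal (K ⊗[k] A) :=
  (M ^ (t + 1)).map (incR K) ⊔ Ideal.span (Set.range (gen w e φ))

include D

omit [Fintype ιw] in
lemma ext_lw_gen (j' j : ιw) : ext K (lw j') (gen w e φ j) = if j' = j then 1 else 0 := by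
  rw [gen, map_add, map_sum, ext_tmul, D.lww]
  simp only [ext_tmul, D.lwe, zero_smul, Finset.sum_const_zero, add_zero]
  split_ifs <;> simp

omit [Fintype ιw] in
lemma ext_le_gen (i : ιe) (j : ιw) : ext K (le i) (gen w e φ j) = φ i j := by
  rw [gen, map_add, map_sum, ext_tmul, D.lew, zero_smul, zero_add]
  simp only [ext_tmul, D.lee]
  rw [Finset.sum_eq_single i]
  · simp
  · intro b _ hb
    rw [if_neg (Ne.symm hb), zero_smul]
  · simp

omit [DecidableEq ιw] [DecidableEq ιe] [Fintype ιw] D in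
lemma gen_mem (hw : ∀ j, w j ∈ M ^ t) (he : ∀ i, e i ∈ M ^ t) (j : ιw) :
    gen (k := k) w e φ j ∈ (M ^ t).map (incR (k := k) K) := by
  refine Ideal.add_mem _ (Ideal.mem_map_of_mem (incR K) (hw j)) (Ideal.sum_mem _ fun i _ => ?_)
  have h : φ i j ⊗ₜ[k] e i = (φ i j ⊗ₜ[k] (1 : A)) * (1 ⊗ₜ[k] e i) := by
    rw [Algebra.TensorProduct.tmul_mul_tmul, mul_one, one_mul]
  rw [h]
  exact Ideal.mul_mem_left _ _ (Ideal.mem_map_of_mem (incR K) (he i))

lemma mem_fat_iff (x : K ⊗[k] A) : x ∈ fat M t w e φ ↔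
    ∃ c : ιw → K, x - ∑ j, c j • gen w e φ j ∈ (M ^ (t + 1)).map (incR K) := by
  constructor
  · intro hx
    obtain ⟨n, hn, z, hz, rfl⟩ := Submodule.mem_sup.1 hx
    obtain ⟨y, rfl⟩ := (Ideal.mem_span_range_iff_exists_fun).1 hz
    choose c hc using fun j => exists_sub_mem K D.hM (y j)
    refine ⟨c, ?_⟩
    have h : n + ∑ j, y j * gen w e φ j - ∑ j, c j • gen w e φ j =
        n + ∑ j, (y j - c j ⊗ₜ 1) * gen w e φ j := by
      rw [add_sub_assoc, ← Finset.sum_sub_distrib]
      congr 1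
      refine Finset.sum_congr rfl fun j _ => ?_
      rw [sub_mul]
      congr 1
      rw [Algebra.smul_def, Algebra.TensorProduct.algebraMap_apply]
      rfl
    rw [h]
    refine Ideal.add_mem _ hn (Ideal.sum_mem _ fun j _ => ?_)
    rw [pow_succ', Ideal.map_mul]
    exact Ideal.mul_mem_mul (hc j) (gen_mem φ D.hw D.he j)
  · rintro ⟨c, hc⟩
    have h : x = (x - ∑ j, c j • gen w e φ j) + ∑ j, c j • gen w e φ j := by ring
    rw [h]
    refine Ideal.add_mem _ (Submodule.mem_sup_left hc) (Ideal.sum_mem _ fun j _ => ?_)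
    refine Submodule.mem_sup_right ?_
    rw [Algebra.smul_def]
    exact Ideal.mul_mem_left _ _ (Ideal.subset_span ⟨j, rfl⟩)

lemma ext_lw_eq {x : K ⊗[k] A} {c : ιw → K}
    (h : x - ∑ j, c j • gen w e φ j ∈ (M ^ (t + 1)).map (incR K)) (j : ιw) :
    ext K (lw j) x = c j := by
  have h1 := ext_eq_zero K (lw j) _ (D.lwM j) h
  rw [map_sub, map_sum, sub_eq_zero] at h1
  simp only [map_smul, ext_lw_gen D, smul_eq_mul, mul_ite, mul_one, mul_zero,
    Finset.sum_ite_eq, Finset.mem_univ, if_true] at h1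
  exact h1

lemma ext_le_eq {x : K ⊗[k] A} (hx : x ∈ fat M t w e φ) (i : ιe) :
    ext K (le i) x = ∑ j, φ i j * ext K (lw j) x := by
  obtain ⟨c, h⟩ := (mem_fat_iff D φ x).1 hx
  have h1 := ext_eq_zero K (le i) _ (D.leM i) h
  rw [map_sub, map_sum, sub_eq_zero] at h1
  rw [h1]
  refine Finset.sum_congr rfl fun j _ => ?_
  rw [map_smul, ext_le_gen D, ext_lw_eq D φ h, smul_eq_mul, mul_comm]

omit [DecidableEq ιw] [DecidableEq ιe] [Fintype ιw] D in
lemma map_le_fat : (M ^ (t + 1)).map (incR (k := k) K) ≤ fat (k := k) M t w e φ := le_sup_left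

omit [DecidableEq ιw] [DecidableEq ιe] [Fintype ιw] D in
lemma gen_mem_fat (j : ιw) : gen (k := k) w e φ j ∈ fat (k := k) M t w e φ :=
  Submodule.mem_sup_right (Ideal.subset_span ⟨j, rfl⟩)

/-- The colength of the fat point. -/
theorem finrank_fat : Module.Finite K (K ⊗[k] A ⧸ fat M t w e φ) ∧
    Module.finrank K (K ⊗[k] A ⧸ fat M t w e φ) + Fintype.card ιw =
      Module.finrank k (A ⧸ M ^ (t + 1)) := by
  obtain ⟨h1, h2⟩ := finite_finrank_map_incR (k := k) K (M ^ (t + 1))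
  have hN := h1.1 D.fin
  rw [h2]
  refine finrank_quot_aux _ _ (map_le_fat φ) (fun j => ext K (lw j)) (gen w e φ)
    (gen_mem_fat φ) (fun j x hx => ext_eq_zero K (lw j) _ (D.lwM j) hx) (ext_lw_gen D φ) ?_
  intro x hx h0
  obtain ⟨c, hc⟩ := (mem_fat_iff D φ x).1 hx
  have h3 : ∀ j, c j = 0 := fun j => by rw [← ext_lw_eq D φ hc j, h0]
  simp only [h3, zero_smul, Finset.sum_const_zero, sub_zero] at hc
  exact hc

/-- The coefficients belong to every field of definition. -/
theorem mem_of_defAlong {L : Type u} [Field L] [Algebra k L] {ψ : L →ₐ[k] K}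
    (h : DefAlong ψ (fat M t w e φ)) (i : ιe) (j : ιw) : φ i j ∈ Set.range ψ := by
  obtain ⟨J₀, hJ₀⟩ := h
  let Θ : L ⊗[k] A →ₗ[L] (ιw → L) := LinearMap.pi fun j => ext L (lw j)
  let S : Submodule L (ιw → L) := (J₀.restrictScalars L).map Θ
  have hS : S = ⊤ := by
    by_contra hne
    obtain ⟨α, hα, hle⟩ := Submodule.exists_le_ker_of_lt_top S (lt_top_iff_ne_top.2 hne)
    apply hα
    have hα' : ∀ v : ιw → L, α v = ∑ j, v j * α (Pi.single j 1) := by
      intro v
      conv_lhs => rw [← Finset.univ_sum_single v, map_sum]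
      refine Finset.sum_congr rfl fun j _ => ?_
      have : (Pi.single j (v j) : ιw → L) = v j • Pi.single j 1 := by
        rw [← Pi.single_smul', smul_eq_mul, mul_one]
      rw [this, map_smul, smul_eq_mul]
    let β : K ⊗[k] A →ₗ[K] K := ∑ j, ψ (α (Pi.single j 1)) • ext K (lw j)
    have hβ : ∀ x, β x = ∑ j, ψ (α (Pi.single j 1)) * ext K (lw j) x := by
      intro x
      simp [β]
    have h1 : ∀ x ∈ fat M t w e φ, β x = 0 := by
      intro x hx
      rw [← hJ₀] at hx
      have h2 := mem_span_of_mem_map K ψ J₀ hx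
      have h3 : Submodule.span K (bm A ψ '' (J₀ : Set (L ⊗[k] A))) ≤ LinearMap.ker β := by
        rw [Submodule.span_le]
        rintro _ ⟨y, hy, rfl⟩
        rw [SetLike.mem_coe, LinearMap.mem_ker, hβ]
        have h4 : α (Θ y) = 0 := hle ⟨y, hy, rfl⟩
        rw [hα'] at h4
        have h5 := congrArg ψ h4
        rw [map_sum, map_zero] at h5
        rw [← h5]
        refine Finset.sum_congr rfl fun j _ => ?_
        rw [ext_bm, map_mul, mul_comm]
        rfl
      exact h3 h2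
    have h2 : ∀ j, α (Pi.single j 1) = 0 := by
      intro j
      have h3 := h1 _ (gen_mem_fat φ j)
      rw [hβ] at h3
      simp only [ext_lw_gen D, mul_ite, mul_one, mul_zero, Finset.sum_ite_eq', Finset.mem_univ,
        if_true] at h3
      exact (map_eq_zero_iff ψ ψ.injective).1 h3
    ext v
    simp [h2]
  obtain ⟨x₁, hx₁, hx₂⟩ : (Pi.single j 1 : ιw → L) ∈ S := by rw [hS]; trivial
  have hx₃ : bm A ψ x₁ ∈ fat M t w e φ := by
    rw [← hJ₀]
    exact Ideal.mem_map_of_mem _ hx₁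
  have h4 := ext_le_eq D φ hx₃ i
  refine ⟨ext L (le i) x₁, ?_⟩
  rw [← ext_bm, h4]
  have h5 : ∀ j', ext K (lw j') (bm A ψ x₁) = if j' = j then 1 else 0 := by
    intro j'
    rw [ext_bm]
    have h6 : ext L (lw j') x₁ = (Pi.single j 1 : ιw → L) j' := congrFun hx₂ j'
    rw [h6, Pi.single_apply]
    split_ifs <;> simp
  simp only [h5, mul_ite, mul_one, mul_zero, Finset.sum_ite_eq', Finset.mem_univ, if_true]

end Fat

end K221.FldPt
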