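import Groth.Agent.HilbD.K221.Crit

/-!
# Existence of bases between two powers of a maximal ideal
-/

set_option autoImplicit false
set_option backward.isDefEq.respectTransparency false

universe u

open CategoryTheory CategoryTheory.Limits AlgebraicGeometry TensorProduct Cardinal

namespace K221.FldPt

open K221.AffPt K221.Acl Groth.Agent.Sga4h.GeoDim

variable {k : Type u} [Field k] {A : Type u} [CommRing A] [Algebra k A]

/-- Bases of `M ^ t / M ^ (t + 1)`. -/
theorem exists_fatData (M : Ideal A) (hM : ∀ a : A, ∃ c : k, a - algebraMap k A c ∈ M) (t : ℕ)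
    (fin : Module.Finite k (A ⧸ M ^ (t + 1))) (c q : ℕ)
    (h : Module.finrank k (A ⧸ M ^ t) + (c + q) = Module.finrank k (A ⧸ M ^ (t + 1))) :
    ∃ (w : ULift.{u} (Fin q) → A) (e : ULift.{u} (Fin c) → A)
      (lw : ULift.{u} (Fin q) → A →ₗ[k] k) (le : ULift.{u} (Fin c) → A →ₗ[k] k),
      FatData M t w e lw le := by
  let V := A ⧸ M ^ (t + 1)
  let W : Submodule k V := ((M ^ t).map (Ideal.Quotient.mk (M ^ (t + 1)))).restrictScalars k
  have hle : M ^ (t + 1) ≤ M ^ t := Ideal.pow_le_pow_right (Nat.le_succ t)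
  have hW : Module.finrank k W = c + q := by
    have h1 := Submodule.finrank_quotient_add_finrank W
    have e₁ : (V ⧸ W) ≃ₗ[k] (A ⧸ M ^ t) :=
      (Submodule.Quotient.restrictScalarsEquiv k _) ≪≫ₗ
        (DoubleQuot.quotQuotEquivQuotOfLEₐ k hle).toLinearEquiv
    rw [e₁.finrank_eq] at h1
    change _ = Module.finrank k (A ⧸ M ^ (t + 1)) at h1
    omega
  have hcard : Module.finrank k W = Fintype.card (ULift.{u} (Fin c) ⊕ ULift.{u} (Fin q)) := by
    rw [hW]; simp
  let b : Module.Basis (ULift.{u} (Fin c) ⊕ ULift.{u} (Fin q)) k W :=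
    Module.finBasis k W |>.reindex (Fintype.equivOfCardEq (by rw [Fintype.card_fin, hcard]))
  have hb : ∀ i, ∃ a ∈ M ^ t, Ideal.Quotient.mk (M ^ (t + 1)) a = (b i : V) := by
    intro i
    have h1 : (b i : V) ∈ (M ^ t).map (Ideal.Quotient.mk (M ^ (t + 1))) := (b i).2
    rw [Ideal.mem_map_iff_of_surjective _ Ideal.Quotient.mk_surjective] at h1
    obtain ⟨a, ha, h2⟩ := h1
    exact ⟨a, ha, h2⟩
  choose v hv hvb using hb
  have hl : ∀ i, ∃ l : V →ₗ[k] k, l ∘ₗ W.subtype = b.coord i := fun i =>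
    (b.coord i).exists_extend
  choose l hl using hl
  have hlv : ∀ i j, l i (Ideal.Quotient.mk (M ^ (t + 1)) (v j)) = if i = j then 1 else 0 := by
    intro i j
    rw [hvb]
    have h1 : l i (b j : V) = b.coord i (b j) := by rw [← hl]; rfl
    rw [h1, Module.Basis.coord_apply, Module.Basis.repr_self, Finsupp.single_apply]
    simp only [eq_comm]
  have hlM : ∀ i, ∀ a ∈ M ^ (t + 1), l i (Ideal.Quotient.mk (M ^ (t + 1)) a) = 0 := by
    intro i a ha
    rw [Ideal.Quotient.eq_zero_iff_mem.2 ha, map_zero]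
  let L : (ULift.{u} (Fin c) ⊕ ULift.{u} (Fin q)) → A →ₗ[k] k := fun i =>
    l i ∘ₗ (Ideal.Quotient.mkₐ k (M ^ (t + 1))).toLinearMap
  refine ⟨fun j => v (.inr j), fun i => v (.inl i), fun j => L (.inr j), fun i => L (.inl i),
    hM, fun j => hv _, fun i => hv _, fun j => hlM _, fun i => hlM _, fun j j' => ?_,
    fun j i => ?_, fun i j => ?_, fun i i' => ?_, fin⟩
  · exact (hlv _ _).trans (by simp only [Sum.inr.injEq])
  · exact (hlv _ _).trans (by simp)
  · exact (hlv _ _).trans (by simp)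
  · exact (hlv _ _).trans (by simp only [Sum.inl.injEq])

section Crit

variable {X : Scheme.{u}} {f : X ⟶ Spec (CommRingCat.of k)} {s : ℕ}
  {H : Over (Spec (CommRingCat.of k))} {Z : HilbD.Obj f s H} (j : Spec (CommRingCat.of A) ⟶ X)
  (hj : j ≫ f = Spec.map (CommRingCat.ofHom (algebraMap k A))) [IsOpenImmersion j] [IsSeparated f]
  [QuasiCompact f] [LocallyOfFinitePresentation f] (hZ : HilbD.IsUniversal f s H Z)

include hj hZ in
/-- **Reducibility criterion** in terms of the dimensions of `A / M ^ t`. -/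
theorem not_irreducibleSpace [IsDomain A] (M : Ideal A)
    (hM : ∀ a : A, ∃ c : k, a - algebraMap k A c ∈ M) (t : ℕ)
    (fin : Module.Finite k (A ⧸ M ^ (t + 1))) (c q : ℕ)
    (h : Module.finrank k (A ⧸ M ^ t) + (c + q) = Module.finrank k (A ⧸ M ^ (t + 1)))
    (n : ℕ) (hn : 1 ≤ n) (htr : Algebra.trdeg k A = n)
    (hbig : (Module.finrank k (A ⧸ M ^ t) + c) * n < c * q)
    (hs : Module.finrank k (A ⧸ M ^ t) + c ≤ s) : ¬ IrreducibleSpace H.left := by
  obtain ⟨w, e, lw, le, D⟩ := exists_fatData M hM t fin c q h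
  obtain ⟨r, rfl⟩ := Nat.exists_eq_add_of_le hs
  refine not_irreducibleSpace_of_fatData D j hj hZ n r hn htr ?_ ?_
  · rw [Fintype.card_ulift, Fintype.card_fin]
    omega
  · rw [Fintype.card_ulift, Fintype.card_fin, Fintype.card_ulift, Fintype.card_fin, add_mul]
    omega

end Crit

end K221.FldPt
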