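import Mathlib.RingTheory.Kaehler.TensorProduct
import Mathlib.RingTheory.LocalRing.Module
import Mathlib.RingTheory.Unramified.Field
import Mathlib.RingTheory.Unramified.Finite
import Mathlib.RingTheory.Flat.FaithfullyFlat.Basic

/-!
# Generic unramifiedness for finite algebras
-/

set_option autoImplicit false

universe u

open TensorProduct

namespace K221.Unram

theorem mem_support_iff_ker {R M K : Type u} [CommRing R] [AddCommGroup M] [Module R M]
    [Module.Finite R M] [Field K] [Algebra R K] (p : PrimeSpectrum R)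
    (hp : p.asIdeal = RingHom.ker (algebraMap R K)) :
    p ∈ Module.support R M ↔ Nontrivial (K ⊗[R] M) := by
  rw [Module.mem_support_iff_nontrivial_residueField_tensorProduct]
  let κ := p.asIdeal.ResidueField
  have h2 : p.asIdeal.primeCompl ≤ Submonoid.comap (algebraMap R K) (IsUnit.submonoid K) := by
    intro x hx
    have : algebraMap R K x ≠ 0 := fun h => hx (by
      change x ∈ p.asIdeal
      rw [hp]; exact h)
    exact isUnit_iff_ne_zero.2 this
  let g : κ →+* K := Ideal.ResidueField.lift p.asIdeal (algebraMap R K) (by rw [hp]) h2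
  let : Algebra κ K := g.toAlgebra
  have h1 : IsScalarTower R κ K := .of_algebraMap_eq' (by
    refine RingHom.ext fun x => ?_
    exact (Ideal.ResidueField.lift_algebraMap p.asIdeal (algebraMap R K) (by rw [hp]) h2 x).symm)
  let e : K ⊗[κ] (κ ⊗[R] M) ≃ₗ[K] K ⊗[R] M :=
    TensorProduct.AlgebraTensorModule.cancelBaseChange R κ K K M
  rw [← e.nontrivial_congr]
  exact (Module.FaithfullyFlat.nontrivial_tensorProduct_iff_right κ K).symm

theorem subsingleton_tensor_of_le {R M K₁ K₂ : Type u} [CommRing R] [AddCommGroup M] [Module R M]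
    [Module.Finite R M] [Field K₁] [Algebra R K₁] [Field K₂] [Algebra R K₂]
    (h : RingHom.ker (algebraMap R K₂) ≤ RingHom.ker (algebraMap R K₁))
    (h1 : Subsingleton (K₁ ⊗[R] M)) : Subsingleton (K₂ ⊗[R] M) := by
  let p₁ : PrimeSpectrum R := ⟨RingHom.ker (algebraMap R K₁), RingHom.ker_isPrime _⟩
  let p₂ : PrimeSpectrum R := ⟨RingHom.ker (algebraMap R K₂), RingHom.ker_isPrime _⟩
  rw [← not_nontrivial_iff_subsingleton, ← mem_support_iff_ker p₁ rfl] at h1
  rw [← not_nontrivial_iff_subsingleton, ← mem_support_iff_ker p₂ rfl]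
  intro h2
  apply h1
  rw [Module.support_eq_zeroLocus] at h2 ⊢
  exact fun x hx => h (h2 hx)

/-- Unramifiedness of the fibre at a point implies unramifiedness at all generisations. -/
theorem formallyUnramified_of_le {R B K₁ K₂ B₁ B₂ : Type u} [CommRing R] [CommRing B] [Algebra R B]
    [Module.Finite R B] [Field K₁] [Algebra R K₁] [Field K₂] [Algebra R K₂] [CommRing B₁]
    [CommRing B₂] [Algebra K₁ B₁] [Algebra K₂ B₂] [Algebra R B₁] [Algebra R B₂] [Algebra B B₁]
    [Algebra B B₂] [IsScalarTower R B B₁] [IsScalarTower R B B₂] [IsScalarTower R K₁ B₁]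
    [IsScalarTower R K₂ B₂] [Algebra.IsPushout R K₁ B B₁] [Algebra.IsPushout R K₂ B B₂]
    (h : RingHom.ker (algebraMap R K₂) ≤ RingHom.ker (algebraMap R K₁))
    (h1 : Algebra.FormallyUnramified K₁ B₁) : Algebra.FormallyUnramified K₂ B₂ := by
  have hfin : Module.Finite R Ω[B⁄R] := Module.Finite.trans B _
  have e₁ : K₁ ⊗[R] Ω[B⁄R] ≃ₗ[K₁] Ω[B₁⁄K₁] := KaehlerDifferential.tensorKaehlerEquivBase R K₁ B B₁
  have e₂ : K₂ ⊗[R] Ω[B⁄R] ≃ₗ[K₂] Ω[B₂⁄K₂] := KaehlerDifferential.tensorKaehlerEquivBase R K₂ B B₂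
  have h2 : Subsingleton Ω[B₁⁄K₁] := h1.1
  have h3 := subsingleton_tensor_of_le (M := Ω[B⁄R]) h e₁.toEquiv.subsingleton
  exact ⟨e₂.symm.toEquiv.subsingleton⟩

end K221.Unram
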