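import Groth.Agent.HilbD.K221.DefOver
import Groth.Agent.HilbD.K221.Unram

/-!
# Reduced points of Hilbert schemes and their generisations
-/

set_option autoImplicit false
set_option backward.isDefEq.respectTransparency false

universe u

open CategoryTheory CategoryTheory.Limits AlgebraicGeometry TensorProduct Cardinal

namespace K221.FldPt

open K221.AffPt K221.Acl Groth.Agent.Picfga.HilbPull Groth.Agent.Sga4h.GeoDim

variable {k : Type u} [Field k] {K : Type u} [Field K] [Algebra k K] {A : Type u} [CommRing A]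
  [Algebra k A]

lemma isCoprime_ker_ev {y z : A →ₐ[k] K} (h : y ≠ z) :
    IsCoprime (RingHom.ker (ev y)) (RingHom.ker (ev z)) :=
  Ideal.isCoprime_of_isMaximal fun h' => h (ker_ev_injective h')

/-- A reduced finite subscheme over an algebraically closed field is a set of points. -/
theorem exists_points [IsAlgClosed K] (J : Ideal (K ⊗[k] A))
    (hfin : Module.Finite K (K ⊗[k] A ⧸ J)) (hred : IsReduced (K ⊗[k] A ⧸ J)) :
    ∃ (m : ℕ) (y : Fin m → (A →ₐ[k] K)), Function.Injective y ∧
      m ≤ Module.finrank K (K ⊗[k] A ⧸ J) ∧ J = ⨅ i, RingHom.ker (ev (y i)) := by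
  let B := K ⊗[k] A ⧸ J
  let pt : (B →ₐ[K] K) → (A →ₐ[k] K) := fun φ =>
    (φ.restrictScalars k).comp ((Ideal.Quotient.mkₐ k J).comp Algebra.TensorProduct.includeRight)
  have hev : ∀ φ, (ev (pt φ)) = φ.comp (Ideal.Quotient.mkₐ K J) := by
    intro φ
    ext a
    change ev (pt φ) (1 ⊗ₜ a) = _
    rw [ev_tmul, one_mul]
    rfl
  have hinj : Function.Injective pt := by
    intro φ ψ h
    have h1 : φ.comp (Ideal.Quotient.mkₐ K J) = ψ.comp (Ideal.Quotient.mkₐ K J) := by
      rw [← hev, ← hev, h]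
    refine AlgHom.ext fun x => ?_
    obtain ⟨x, rfl⟩ := Ideal.Quotient.mk_surjective x
    exact congrArg (fun g => g x) h1
  have hfinite : Finite (B →ₐ[K] K) := inferInstance
  let e := Finite.equivFin (B →ₐ[K] K)
  refine ⟨Nat.card (B →ₐ[K] K), fun i => pt (e.symm i), fun i j h => e.symm.injective (hinj h),
    card_algHom_le_finrank K B K, ?_⟩
  apply le_antisymm
  · refine le_iInf fun i => ?_
    intro x hx
    rw [hev, RingHom.mem_ker]
    change (e.symm i) (Ideal.Quotient.mk J x) = 0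
    rw [Ideal.Quotient.eq_zero_iff_mem.2 hx, map_zero]
  · intro x hx
    rw [← Ideal.Quotient.eq_zero_iff_mem]
    have h0 : ∀ φ : B →ₐ[K] K, φ (Ideal.Quotient.mk J x) = 0 := by
      intro φ
      have h1 := (Submodule.mem_iInf _).1 hx (e φ)
      rw [hev, RingHom.mem_ker, e.symm_apply_apply] at h1
      exact h1
    have h2 : (Ideal.Quotient.mk J x) ∈ nilradical B := by
      rw [nilradical_eq_sInf, Ideal.mem_sInf]
      intro P hP
      have : P.IsPrime := hP
      have h3 : Function.Bijective (algebraMap K (B ⧸ P)) :=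
        IsAlgClosed.algebraMap_bijective_of_isIntegral
      let g : K ≃ₐ[K] (B ⧸ P) := AlgEquiv.ofBijective (Algebra.ofId K (B ⧸ P)) h3
      have h4 := h0 (g.symm.toAlgHom.comp (Ideal.Quotient.mkₐ K P))
      have h5 : g.symm (Ideal.Quotient.mk P (Ideal.Quotient.mk J x)) = 0 := h4
      rw [map_eq_zero_iff _ g.symm.injective] at h5
      exact Ideal.Quotient.eq_zero_iff_mem.1 h5
    rw [nilradical_eq_zero] at h2
    exact h2

section Upper

variable {X : Scheme.{u}} {f : X ⟶ Spec (CommRingCat.of k)} {d : ℕ}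
  {H : Over (Spec (CommRingCat.of k))} {Z : HilbD.Obj f d H} (j : Spec (CommRingCat.of A) ⟶ X)
  (hj : j ≫ f = Spec.map (CommRingCat.ofHom (algebraMap k A))) [IsOpenImmersion j] [IsSeparated f]
  (hZ : HilbD.IsUniversal f d H Z)

/-- If all points of `A` are contained in algebraic closures of `n` elements, then the dimension
of `H` at a reduced point is at most `d n`. -/
theorem trdegAt_im_le_of_isReduced [IsAlgClosed K] (J : Ideal (K ⊗[k] A))
    (hJ : Mor2.IsFinLocFreeOfDeg d (zpi J)) (hred : IsReduced (K ⊗[k] A ⧸ J)) (n : ℕ)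
    (hn : ∀ y : A →ₐ[k] K, ∃ s : Set K, #s ≤ n ∧ ∀ a, y a ∈ acl k s) :
    trdegAt H.hom (im j hj hZ J hJ) ≤ ((d * n : ℕ) : Cardinal.{u}) := by
  obtain ⟨h1, h2⟩ := (isFinLocFreeOfDeg_zpi_iff J).1 hJ
  obtain ⟨m, y, hy, hm, hJy⟩ := exists_points J h1 hred
  choose s hs hs' using fun i => hn (y i)
  have h3 : DefOver (acl k (⋃ i, s i)) J := by
    rw [hJy, defOver_iff]
    refine DefAlong.iInf _ (fun i => defAlong_ker_ev _ fun a => ?_) fun i i' hii' =>
      isCoprime_ker_ev fun h => hii' (hy h)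
    exact ⟨⟨y i a, acl_mono (Set.subset_iUnion s i) (hs' i a)⟩, rfl⟩
  refine (trdegAt_im_le j hj hZ J hJ _ h3).trans ((trdeg_acl_le _).trans ?_)
  calc #(⋃ i, s i : Set K) ≤ Cardinal.sum fun i => #(s i) := by
        have := mk_iUnion_le_sum_mk_lift (f := s)
        rwa [lift_id'] at this
    _ ≤ Cardinal.sum fun _ : Fin m => (n : Cardinal.{u}) := Cardinal.sum_le_sum _ _ hs
    _ = ((m * n : ℕ) : Cardinal.{u}) := by simp
    _ ≤ ((d * n : ℕ) : Cardinal.{u}) := by
      rw [h2] at hm
      exact_mod_cast Nat.mul_le_mul_right n hm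

end Upper

end K221.FldPt
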