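import Groth.Agent.HilbD.K221.Fat
import Groth.Agent.HilbD.K221.RedPts

/-!
# Fat points together with generic points
-/

set_option autoImplicit false
set_option backward.isDefEq.respectTransparency false

universe u

open CategoryTheory CategoryTheory.Limits AlgebraicGeometry TensorProduct Cardinal

namespace K221.FldPt

open K221.AffPt K221.Acl Groth.Agent.Sga4h.GeoDim

/-- Colength of an intersection of comaximal ideals. -/
theorem finrank_quot_iInf {K R ι : Type*} [Field K] [CommRing R] [Algebra K R] [Fintype ι]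
    (I : ι → Ideal R) (hc : Pairwise fun i j => IsCoprime (I i) (I j))
    (hfin : ∀ i, Module.Finite K (R ⧸ I i)) :
    Module.Finite K (R ⧸ ⨅ i, I i) ∧
      Module.finrank K (R ⧸ ⨅ i, I i) = ∑ i, Module.finrank K (R ⧸ I i) := by
  let Φ : R →ₐ[K] (∀ i, R ⧸ I i) := AlgHom.pi fun i => Ideal.Quotient.mkₐ K (I i)
  have hker : RingHom.ker Φ = ⨅ i, I i := by
    ext x
    rw [RingHom.mem_ker, Submodule.mem_iInf]
    constructor
    · intro h i
      exact Ideal.Quotient.eq_zero_iff_mem.1 (congrFun h i)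
    · intro h
      funext i
      exact Ideal.Quotient.eq_zero_iff_mem.2 (h i)
  have hsurj : Function.Surjective Φ := by
    intro y
    obtain ⟨z, hz⟩ := (Ideal.quotientInfRingEquivPiQuotient I hc).surjective y
    obtain ⟨x, rfl⟩ := Ideal.Quotient.mk_surjective z
    refine ⟨x, ?_⟩
    rw [← hz]
    rfl
  let e : (R ⧸ ⨅ i, I i) ≃ₗ[K] (∀ i, R ⧸ I i) :=
    (Ideal.quotientEquivAlgOfEq K hker.symm).toLinearEquiv ≪≫ₗ
      (Ideal.quotientKerAlgEquivOfSurjective hsurj).toLinearEquiv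
  refine ⟨Module.Finite.equiv e.symm, ?_⟩
  rw [e.finrank_eq, Module.finrank_pi_fintype]

variable {k : Type u} [Field k] {A : Type u} [CommRing A] [Algebra k A] {K : Type u} [Field K]
  [Algebra k K]

lemma finrank_ker_ev (y : A →ₐ[k] K) : Module.Finite K (K ⊗[k] A ⧸ RingHom.ker (ev y)) ∧
    Module.finrank K (K ⊗[k] A ⧸ RingHom.ker (ev y)) = 1 := by
  let e : (K ⊗[k] A ⧸ RingHom.ker (ev y)) ≃ₗ[K] K :=
    (Ideal.quotientKerAlgEquivOfSurjective (ev_surjective y)).toLinearEquiv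
  exact ⟨Module.Finite.equiv e.symm, by rw [e.finrank_eq, Module.finrank_self]⟩

section Comb

variable {M : Ideal A} {t : ℕ} {ιw ιe : Type u} [DecidableEq ιw] [DecidableEq ιe] [Fintype ιw]
  [Fintype ιe] {w : ιw → A} {e : ιe → A} {lw : ιw → A →ₗ[k] k} {le : ιe → A →ₗ[k] k}
  (D : FatData M t w e lw le) (φ : ιe → ιw → K) {ιr : Type u} [Fintype ιr]
  (y : ιr → (A →ₐ[k] K))

/-- The fat point and the points `y`. -/
noncomputable def comb (M : Ideal A) (t : ℕ) (w : ιw → A) (e : ιe → A) (φ : ιe → ιw → K)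
    (y : ιr → (A →ₐ[k] K)) : Option ιr → Ideal (K ⊗[k] A) :=
  fun i => i.elim (fat M t w e φ) fun l => RingHom.ker (ev (y l))

omit [DecidableEq ιw] [DecidableEq ιe] [Fintype ιw] [Fintype ιe] [Fintype ιr] in
lemma isCoprime_map_ker {l : ιr} (h : ∃ a ∈ M, y l a ≠ 0) :
    IsCoprime ((M ^ (t + 1)).map (incR (k := k) K)) (RingHom.ker (ev (y l))) := by
  rw [Ideal.map_pow]
  refine IsCoprime.pow_left ?_
  obtain ⟨a, ha, hya⟩ := h
  rw [Ideal.isCoprime_iff_sup_eq, sup_comm]
  by_contra hne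
  have h1 := (isMaximal_ker_ev (y l)).eq_of_le hne le_sup_left
  have h2 : incR (k := k) K a ∈ RingHom.ker (ev (y l)) := by
    rw [h1]
    exact Submodule.mem_sup_right (Ideal.mem_map_of_mem _ ha)
  apply hya
  have h3 : ev (y l) (1 ⊗ₜ a) = 0 := h2
  rwa [ev_tmul, one_mul] at h3

omit [DecidableEq ιw] [DecidableEq ιe] [Fintype ιw] [Fintype ιr] in
lemma pairwise_comb (hy : Function.Injective y) (hyM : ∀ l, ∃ a ∈ M, y l a ≠ 0) :
    Pairwise fun i j => IsCoprime (comb M t w e φ y i) (comb M t w e φ y j) := by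
  have h : ∀ l, IsCoprime (fat M t w e φ) (RingHom.ker (ev (y l))) := fun l => by
    have h1 := isCoprime_map_ker (t := t) y (hyM l)
    rw [Ideal.isCoprime_iff_sup_eq] at h1 ⊢
    exact top_le_iff.1 (h1.ge.trans (sup_le_sup_right (map_le_fat φ) _))
  rintro (_ | i) (_ | j) hij
  · exact absurd rfl hij
  · exact h j
  · exact (h i).symm
  · exact isCoprime_ker_ev fun h' => hij (congrArg some (hy h'))

include D in
theorem finrank_comb (hy : Function.Injective y) (hyM : ∀ l, ∃ a ∈ M, y l a ≠ 0) :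
    Module.Finite K (K ⊗[k] A ⧸ ⨅ i, comb M t w e φ y i) ∧
      Module.finrank K (K ⊗[k] A ⧸ ⨅ i, comb M t w e φ y i) + Fintype.card ιw =
        Module.finrank k (A ⧸ M ^ (t + 1)) + Fintype.card ιr := by
  obtain ⟨h1, h2⟩ := finrank_quot_iInf (K := K) (comb M t w e φ y) (pairwise_comb φ y hy hyM) (by
    rintro (_ | l)
    · exact (finrank_fat D φ).1
    · exact (finrank_ker_ev (y l)).1)
  refine ⟨h1, ?_⟩
  rw [h2, Fintype.sum_option]
  have h3 : ∀ l, Module.finrank K (K ⊗[k] A ⧸ comb M t w e φ y (some l)) = 1 := fun l =>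
    (finrank_ker_ev (y l)).2
  have h4 := (finrank_fat D φ).2
  have h5 : Module.finrank K (K ⊗[k] A ⧸ comb M t w e φ y none) =
    Module.finrank K (K ⊗[k] A ⧸ fat M t w e φ) := rfl
  simp only [h3, h5, Finset.sum_const, Finset.card_univ, smul_eq_mul, mul_one]
  omega

omit [DecidableEq ιw] [DecidableEq ιe] [Fintype ιw] in
lemma fat_eq (hyM : ∀ l, ∃ a ∈ M, y l a ≠ 0) :
    fat M t w e φ = (⨅ i, comb M t w e φ y i) ⊔ (M ^ (t + 1)).map (incR (k := k) K) := by
  apply le_antisymm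
  · intro x hx
    have h1 : IsCoprime ((M ^ (t + 1)).map (incR (k := k) K))
        (⨅ l ∈ (Finset.univ : Finset ιr), RingHom.ker (ev (y l))) :=
      Ideal.isCoprime_biInf fun l _ => isCoprime_map_ker y (hyM l)
    rw [Ideal.isCoprime_iff_exists] at h1
    obtain ⟨n, hn, p, hp, hnp⟩ := h1
    have h2 : x = x * p + x * n := by rw [← mul_add, add_comm, hnp, mul_one]
    rw [h2]
    refine Submodule.add_mem_sup ?_ (Ideal.mul_mem_left _ _ hn)
    rw [Submodule.mem_iInf]
    rintro (_ | l)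
    · exact Ideal.mul_mem_right _ _ hx
    · simp only [Finset.mem_univ, iInf_pos, Submodule.mem_iInf] at hp
      exact Ideal.mul_mem_left _ _ (hp l)
  · exact sup_le (iInf_le _ none) (map_le_fat φ)

section Lower

variable {X : Scheme.{u}} {f : X ⟶ Spec (CommRingCat.of k)} {d : ℕ}
  {H : Over (Spec (CommRingCat.of k))} {Z : HilbD.Obj f d H} (j : Spec (CommRingCat.of A) ⟶ X)
  (hj : j ≫ f = Spec.map (CommRingCat.ofHom (algebraMap k A))) [IsOpenImmersion j] [IsSeparated f]
  (hZ : HilbD.IsUniversal f d H Z)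

include D in
/-- Lower bound for the dimension at a fat point together with points. -/
theorem card_le_trdegAt_comb
    (hJ : Mor2.IsFinLocFreeOfDeg d (zpi (⨅ i, comb M t w e φ y i)))
    (hyM : ∀ l, ∃ a ∈ M, y l a ≠ 0) {ιz : Type u} (z : ιz → A)
    (hτ : AlgebraicIndependent k (Sum.elim (fun p : ιe × ιw => φ p.1 p.2)
      (fun p : ιr × ιz => y p.1 (z p.2)))) :
    #((ιe × ιw) ⊕ (ιr × ιz)) ≤ trdegAt H.hom (im j hj hZ (⨅ i, comb M t w e φ y i) hJ) := by
  obtain ⟨F, hF, htr⟩ := exists_defOver j hj hZ _ hJ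
  rw [htr]
  refine le_trdeg _ hτ F ?_
  obtain ⟨hfin, -⟩ := (isFinLocFreeOfDeg_zpi_iff _).1 hJ
  rintro (⟨i, j'⟩ | ⟨l, c⟩)
  · have h1 : DefAlong F.val (fat M t w e φ) := by
      rw [fat_eq φ y hyM]
      exact DefAlong.sup hF (defAlong_incR _)
    obtain ⟨b, hb⟩ := mem_of_defAlong D φ h1 i j'
    change IsAlgebraic F (φ i j')
    rw [← hb]
    exact isAlgebraic_algebraMap (R := F) (A := K) b
  · exact isAlgebraic_of_defOver hF hfin (y l) (iInf_le (comb M t w e φ y) (some l)) (z c)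

end Lower

end Comb

end K221.FldPt
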